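import Mathlib
import Cfsg.Prelude
import Cfsg.Agent.Lib.Helper5.OrthNondegSub

set_option autoImplicit false
set_option linter.unusedSectionVars false
set_option linter.unusedVariables false
open Cfsg

/-! Orthogonal decompositions into non-degenerate blocks: components of vectors. -/

namespace Cfsg.Agent.Lib.Helper5.OddWr

open Matrix QuadraticMap Module Cfsg.Agent.Lib.Helper5.CartanDieudonne Cfsg.Agent.Lib.Helper5.Refl
  Cfsg.Agent.Lib.Helper5.Siegel Cfsg.Agent.Lib.Helper5.QuadIsom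
  Cfsg.Agent.Lib.Helper5.MaxTS
  Cfsg.Agent.Lib.Helper5.OrthPairMax Cfsg.Agent.Lib.Helper5.OrthNondegMax
  Cfsg.Agent.Lib.Helper5.OrthNondegSub

variable {ι : Type} [Fintype ι] [DecidableEq ι] {F : Type*} [Field F] [Fintype F]
  {Q : QuadraticForm F (ι → F)}

/-- a non-degenerate subspace and its perp are complementary -/
theorem isCompl_orth (hQ : (polarBilin Q).Nondegenerate) {W : Submodule F (ι → F)}
    (hW : Cfsg.Geo.IsNondegenerateOn (polar ⇑Q) W) : IsCompl W (orth Q W) := by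
  refine ⟨disjoint_iff.mpr (inf_orth_eq_bot hW), codisjoint_iff.mpr ?_⟩
  rw [eq_top_iff]
  intro z _
  obtain ⟨a, ha, b, hb, rfl⟩ := (oPair_of_nondeg hQ hW).split z
  exact Submodule.add_mem_sup ha hb

/-- the orthogonal projection onto a non-degenerate subspace -/
noncomputable def oproj (hQ : (polarBilin Q).Nondegenerate) {W : Submodule F (ι → F)}
    (hW : Cfsg.Geo.IsNondegenerateOn (polar ⇑Q) W) : (ι → F) →ₗ[F] (ι → F) :=
  W.subtype ∘ₗ Submodule.projectionOnto W (orth Q W) (isCompl_orth hQ hW)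

section proj
variable (hQ : (polarBilin Q).Nondegenerate) {W : Submodule F (ι → F)}
  (hW : Cfsg.Geo.IsNondegenerateOn (polar ⇑Q) W)

theorem oproj_mem (x : ι → F) : oproj hQ hW x ∈ W := by
  unfold oproj
  simp

theorem oproj_of_mem {x : ι → F} (hx : x ∈ W) : oproj hQ hW x = x := by
  unfold oproj
  rw [LinearMap.comp_apply]
  have := Submodule.projectionOnto_apply_left (isCompl_orth hQ hW) ⟨x, hx⟩
  rw [this]
  rfl

theorem oproj_of_mem_orth {x : ι → F} (hx : x ∈ orth Q W) : oproj hQ hW x = 0 := by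
  unfold oproj
  rw [LinearMap.comp_apply]
  have := (Submodule.projectionOnto_apply_eq_zero_iff (isCompl_orth hQ hW)).mpr hx
  rw [this]
  rfl

theorem sub_oproj_mem (x : ι → F) : x - oproj hQ hW x ∈ orth Q W := by
  obtain ⟨a, ha, b, hb, rfl⟩ := (oPair_of_nondeg hQ hW).split x
  rw [map_add, oproj_of_mem hQ hW ha, oproj_of_mem_orth hQ hW hb, add_zero, add_sub_cancel_left]
  exact hb

theorem polar_oproj (x : ι → F) {d : ι → F} (hd : d ∈ W) :
    polar ⇑Q (oproj hQ hW x) d = polar ⇑Q x d := by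
  have h1 := (mem_orth Q W _).mp (sub_oproj_mem hQ hW x) d hd
  rw [polar_comm, polar_sub_left, sub_eq_zero] at h1
  exact h1.symm

end proj

section decomp
variable {t k : ℕ} {D : Fin t → Submodule F (ι → F)}
  (hQ : (polarBilin Q).Nondegenerate)
  (hD : Cfsg.Geo.IsNondegenerateMDecomposition (polar ⇑Q) k D)

/-- the component of a vector in the block `j` -/
noncomputable def cmp (j : Fin t) : (ι → F) →ₗ[F] (ι → F) := oproj hQ (hD.nondegenerate j)

theorem cmp_mem (j : Fin t) (x : ι → F) : cmp hQ hD j x ∈ D j := oproj_mem hQ _ x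

theorem cmp_of_mem {j : Fin t} {x : ι → F} (hx : x ∈ D j) : cmp hQ hD j x = x :=
  oproj_of_mem hQ _ hx

include hD in
theorem block_le_orth {j l : Fin t} (h : l ≠ j) : D l ≤ orth Q (D j) := by
  intro x hx
  rw [mem_orth]
  intro w hw
  exact hD.orthogonal j l h.symm w hw x hx

include hD in
theorem polar_blocks {j l : Fin t} (h : l ≠ j) {x y : ι → F} (hx : x ∈ D l) (hy : y ∈ D j) :
    polar ⇑Q x y = 0 := hD.orthogonal l j h x hx y hy

theorem cmp_of_mem_ne {j l : Fin t} (h : l ≠ j) {x : ι → F} (hx : x ∈ D l) :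
    cmp hQ hD j x = 0 :=
  oproj_of_mem_orth hQ _ (block_le_orth hD h hx)

theorem polar_cmp (j : Fin t) (x : ι → F) {d : ι → F} (hd : d ∈ D j) :
    polar ⇑Q (cmp hQ hD j x) d = polar ⇑Q x d := polar_oproj hQ _ x hd

theorem polar_cmp' (j : Fin t) (x : ι → F) {d : ι → F} (hd : d ∈ D j) :
    polar ⇑Q d (cmp hQ hD j x) = polar ⇑Q d x := by
  rw [polar_comm, polar_cmp hQ hD j x hd, polar_comm]

include hQ hD in
/-- a vector orthogonal to all blocks vanishes -/
theorem eq_zero_of_orth_blocks (x : ι → F) (h : ∀ j, ∀ d ∈ D j, polar ⇑Q x d = 0) : x = 0 := by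
  apply hQ.1 x
  intro y
  have hy : y ∈ iSup D := by rw [hD.decomp.iSup_eq_top]; exact Submodule.mem_top
  have hle : iSup D ≤ LinearMap.ker (polarBilin Q x) := by
    apply iSup_le
    intro j d hd
    rw [LinearMap.mem_ker, polarBilin_apply_apply]
    exact h j d hd
  have := hle hy
  rwa [LinearMap.mem_ker] at this

theorem sum_cmp (x : ι → F) : ∑ j, cmp hQ hD j x = x := by
  have h0 : x - ∑ j, cmp hQ hD j x = 0 := by
    apply eq_zero_of_orth_blocks hQ hD
    intro l d hd
    rw [polar_sub_left, sub_eq_zero]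
    have h1 : polar ⇑Q (∑ j, cmp hQ hD j x) d = ∑ j, polar ⇑Q (cmp hQ hD j x) d := by
      have : polar ⇑Q (∑ j, cmp hQ hD j x) d = (polarBilin Q).flip d (∑ j, cmp hQ hD j x) := rfl
      rw [this, map_sum]
      rfl
    rw [h1, Finset.sum_eq_single l]
    · exact (polar_cmp hQ hD l x hd).symm
    · intro j _ hjl
      exact polar_blocks hD hjl (cmp_mem hQ hD j x) hd
    · intro h
      exact absurd (Finset.mem_univ l) h
  exact (sub_eq_zero.mp h0).symm

theorem cmp_cmp_ne {j l : Fin t} (h : l ≠ j) (x : ι → F) : cmp hQ hD j (cmp hQ hD l x) = 0 :=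
  cmp_of_mem_ne hQ hD h (cmp_mem hQ hD l x)

theorem cmp_cmp (j : Fin t) (x : ι → F) : cmp hQ hD j (cmp hQ hD j x) = cmp hQ hD j x :=
  cmp_of_mem hQ hD (cmp_mem hQ hD j x)

theorem mem_block_iff (x : ι → F) (j : Fin t) : x ∈ D j ↔ ∀ l, l ≠ j → cmp hQ hD l x = 0 := by
  constructor
  · intro hx l hl
    exact cmp_of_mem_ne hQ hD hl.symm hx
  · intro h
    have h1 := sum_cmp hQ hD x
    rw [Finset.sum_eq_single j (fun l _ hl => h l hl)
      (fun h => absurd (Finset.mem_univ j) h)] at h1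
    rw [← h1]
    exact cmp_mem hQ hD j x

theorem mem_orth_block_iff (x : ι → F) (j : Fin t) : x ∈ orth Q (D j) ↔ cmp hQ hD j x = 0 := by
  constructor
  · intro hx
    exact oproj_of_mem_orth hQ _ hx
  · intro h
    have := sub_oproj_mem hQ (hD.nondegenerate j) x
    change x - cmp hQ hD j x ∈ _ at this
    rwa [h, sub_zero] at this

theorem polar_eq_sum (x y : ι → F) :
    polar ⇑Q x y = ∑ j, polar ⇑Q (cmp hQ hD j x) (cmp hQ hD j y) := by
  conv_lhs => rw [← sum_cmp hQ hD x]
  have h1 : polar ⇑Q (∑ j, cmp hQ hD j x) y = ∑ j, polar ⇑Q (cmp hQ hD j x) y := by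
    have : polar ⇑Q (∑ j, cmp hQ hD j x) y = (polarBilin Q).flip y (∑ j, cmp hQ hD j x) := rfl
    rw [this, map_sum]
    rfl
  rw [h1]
  apply Finset.sum_congr rfl
  intro j _
  exact (polar_cmp' hQ hD j y (cmp_mem hQ hD j x)).symm

theorem quad_eq_sum (h2 : (2 : F) ≠ 0) (x : ι → F) : Q x = ∑ j, Q (cmp hQ hD j x) := by
  have h1 := polar_eq_sum hQ hD x x
  rw [polar_self] at h1
  have h3 : ∀ j, polar ⇑Q (cmp hQ hD j x) (cmp hQ hD j x) = 2 * Q (cmp hQ hD j x) := by
    intro j
    rw [polar_self, two_smul, two_mul]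
  rw [two_smul, ← two_mul] at h1
  simp only [h3, ← Finset.mul_sum] at h1
  exact mul_left_cancel₀ h2 h1

include hQ hD in
/-- a vector lying in two different blocks vanishes -/
theorem eq_zero_of_mem_two {j l : Fin t} (h : l ≠ j) {x : ι → F} (hl : x ∈ D l) (hj : x ∈ D j) :
    x = 0 := by
  rw [← cmp_of_mem hQ hD hj]
  exact cmp_of_mem_ne hQ hD h hl

end decomp

end Cfsg.Agent.Lib.Helper5.OddWr
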