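import Mathlib
import Cfsg.Prelude
import Cfsg.Agent.Lib.Helper5.OddWr.Basics

set_option autoImplicit false
set_option linter.unusedSectionVars false
set_option linter.unusedVariables false
open Cfsg

/-! Elements of the stabiliser of an orthogonal decomposition: root elements of the blocks,
products of reflections, block three-cycles. -/

namespace Cfsg.Agent.Lib.Helper5.OddWr

open Matrix QuadraticMap Module Cfsg.Agent.Lib.Helper5.CartanDieudonne Cfsg.Agent.Lib.Helper5.Refl
  Cfsg.Agent.Lib.Helper5.OrthCard Cfsg.Agent.Lib.Helper5.Siegel Cfsg.Agent.Lib.Helper5.QuadIsom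
  Cfsg.Agent.Lib.Helper5.Eichler Cfsg.Agent.Lib.Helper5.OmegaSimple
  Cfsg.Agent.Lib.Helper5.MaxTS Cfsg.Agent.Lib.Helper5.SpinorNorm
  Cfsg.Agent.Lib.Helper5.SpSingularMax Cfsg.Agent.Lib.Helper5.OrthSingularMax
  Cfsg.Agent.Lib.Helper5.OrthPairMax Cfsg.Agent.Lib.Helper5.OrthNondegMax
  Cfsg.Agent.Lib.Helper5.OrthNondegSub
open scoped commutatorElement

variable {ι : Type} [Fintype ι] [DecidableEq ι] {F : Type*} [Field F] [Fintype F]
  {Q : QuadraticForm F (ι → F)} {t k : ℕ} {D : Fin t → Submodule F (ι → F)}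

/-- an invertible matrix mapping blocks into blocks according to a permutation is in the
stabiliser of the decomposition -/
theorem mem_decompStab_of_map_le (hD : Cfsg.Geo.IsMDecomposition k D)
    (g : Matrix.GeneralLinearGroup ι F) (σ : Equiv.Perm (Fin t))
    (h : ∀ i, ∀ x ∈ D i, (g : Matrix ι ι F) *ᵥ x ∈ D (σ i)) :
    g ∈ Cfsg.Geo.decompositionStabilizer D := by
  refine ⟨σ, fun i => ?_⟩
  apply Submodule.eq_of_le_of_finrank_eq
  · rintro _ ⟨x, hx, rfl⟩
    rw [Matrix.toLin'_apply]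
    exact h i x hx
  · rw [← (Submodule.equivMapOfInjective _ (gl_injective g) (D i)).finrank_eq,
      hD.finrank_eq, hD.finrank_eq]

/-- an isometry stabilising every block is in the stabiliser of the decomposition -/
theorem mem_decompStab_of_fix (hD : Cfsg.Geo.IsMDecomposition k D)
    (g : ↥(isometryGroup F ⇑Q)) (h : ∀ i, ∀ x ∈ D i, act Q g x ∈ D i) :
    (g : Matrix.GeneralLinearGroup ι F) ∈ Cfsg.Geo.decompositionStabilizer D :=
  mem_decompStab_of_map_le hD _ 1 h

section elems
variable (H : Hyp Q) (hD : Cfsg.Geo.IsNondegenerateMDecomposition (polar ⇑Q) k D)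

include H hD in
/-- the root elements of a block lie in the stabiliser of the decomposition -/
theorem EG_mem_decompStab {j : Fin t} {u z : ι → F} (hu : u ∈ D j) (hQu : Q u = 0)
    (hz : z ∈ D j) (huz : polar ⇑Q u z = 0) :
    ((EG Q u z : ↥(isometryGroup F ⇑Q)) : Matrix.GeneralLinearGroup ι F) ∈
      Cfsg.Geo.decompositionStabilizer D ⊓ Cfsg.Geo.omegaGL ⇑Q := by
  rw [Subgroup.mem_inf]
  refine ⟨mem_decompStab_of_fix hD.decomp _ ?_, ?_⟩
  · intro i x hx
    rw [act_EG Q u z hQu huz]
    by_cases hij : i = j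
    · subst hij
      exact (D i).add_mem ((D i).add_mem hx ((D i).smul_mem _ hz)) ((D i).smul_mem _ hu)
    · rw [polar_blocks hD (Ne.symm hij) hu hx, polar_blocks hD (Ne.symm hij) hz hx]
      simp only [zero_smul, add_zero, mul_zero, neg_zero]
      exact hx
  · rw [EG_eq Q u z hQu huz]
    exact eich_mem_omegaGL H u z hQu huz

include H hD in
theorem inE_block {M : Subgroup (Matrix.GeneralLinearGroup ι F)}
    (hKM : Cfsg.Geo.decompositionStabilizer D ⊓ Cfsg.Geo.omegaGL ⇑Q ≤ M) (j : Fin t) :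
    ∀ u ∈ D j, Q u = 0 → ∀ z ∈ D j, polar ⇑Q u z = 0 → InE Q M u z := by
  intro u hu hQu z hz huz
  refine ⟨hQu, huz, fun s => hKM ?_⟩
  exact EG_mem_decompStab H hD hu hQu ((D j).smul_mem s hz)
    (by rw [polar_smul_right, huz, smul_zero])

include hD in
theorem act_reflection_mem {l : Fin t} {v : ι → F} (hv : v ∈ D l) (hQv : Q v ≠ 0) (i : Fin t)
    {x : ι → F} (hx : x ∈ D i) : act Q (reflection Q v hQv) x ∈ D i := by
  rw [act_reflection]
  by_cases hil : i = l
  · subst hil
    exact (D i).sub_mem hx ((D i).smul_mem _ hv)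
  · rw [polar_blocks hD (Ne.symm hil) hv hx, mul_zero, zero_smul, sub_zero]
    exact hx

include H hD in
/-- a product of four reflections in block vectors with pairwise equal norms lies in the
stabiliser of the decomposition in `Ω` -/
theorem refl_four_mem {l p : Fin t} {v w v' w' : ι → F} (hv : v ∈ D l) (hw : w ∈ D l)
    (hv' : v' ∈ D p) (hw' : w' ∈ D p) (hQv : Q v ≠ 0) (hQw : Q w ≠ 0) (hQv' : Q v' ≠ 0)
    (hQw' : Q w' ≠ 0) (h1 : Q v' = Q v) (h2 : Q w' = Q w) :
    ((reflection Q v hQv * reflection Q w hQw * (reflection Q v' hQv' * reflection Q w' hQw') :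
      ↥(isometryGroup F ⇑Q)) : Matrix.GeneralLinearGroup ι F) ∈
      Cfsg.Geo.decompositionStabilizer D ⊓ Cfsg.Geo.omegaGL ⇑Q := by
  rw [Subgroup.mem_inf]
  refine ⟨mem_decompStab_of_fix hD.decomp _ ?_, ?_⟩
  · intro i x hx
    rw [act_mul, act_mul, act_mul]
    exact act_reflection_mem hD hv hQv i (act_reflection_mem hD hw hQw i
      (act_reflection_mem hD hv' hQv' i (act_reflection_mem hD hw' hQw' i hx)))
  · rw [mem_omegaGL_iff]
    refine ⟨_, ?_, rfl⟩
    have hrep : IsRep Q (reflection Q v hQv * reflection Q w hQw *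
        (reflection Q v' hQv' * reflection Q w' hQw')) (([v] ++ [w]) ++ ([v'] ++ [w'])) :=
      isRep_mul Q (isRep_mul Q (isRep_reflection Q v hQv) (isRep_reflection Q w hQw))
        (isRep_mul Q (isRep_reflection Q v' hQv') (isRep_reflection Q w' hQw'))
    rw [OmegaCrit.mem_Omega_iff Q H.nondeg (fun h4 => by have := H.card5; omega)
      (by have := H.card5; omega) _ _ hrep]
    refine ⟨⟨2, rfl⟩, ⟨Q v * Q w, ?_⟩⟩
    simp [h1, h2]
    ring

end elems

end Cfsg.Agent.Lib.Helper5.OddWr
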