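import Mathlib
import Cfsg.Prelude
import Cfsg.Agent.Lib.Helper5.OddWr.Basics
import Cfsg.Agent.Lib.Helper5.OmegaTrans

set_option autoImplicit false
set_option linter.unusedSectionVars false
set_option linter.unusedVariables false
open Cfsg

/-! Elementary geometry inside a non-degenerate subspace of a quadratic space. -/

namespace Cfsg.Agent.Lib.Helper5.OddWr

open Matrix QuadraticMap Module Cfsg.Agent.Lib.Helper5.CartanDieudonne Cfsg.Agent.Lib.Helper5.Refl
  Cfsg.Agent.Lib.Helper5.Siegel Cfsg.Agent.Lib.Helper5.QuadIsom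
  Cfsg.Agent.Lib.Helper5.MaxTS
  Cfsg.Agent.Lib.Helper5.OrthPairMax Cfsg.Agent.Lib.Helper5.OrthNondegMax
  Cfsg.Agent.Lib.Helper5.OrthNondegSub

variable {ι : Type} [Fintype ι] [DecidableEq ι] {F : Type*} [Field F] [Fintype F]
  {Q : QuadraticForm F (ι → F)}

/-- the perp of a vector inside a subspace -/
def perpIn (Q : QuadraticForm F (ι → F)) (W : Submodule F (ι → F)) (v : ι → F) :
    Submodule F (ι → F) :=
  W ⊓ orth Q (Submodule.span F ({v} : Set (ι → F)))

theorem mem_perpIn (W : Submodule F (ι → F)) (v x : ι → F) :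
    x ∈ perpIn Q W v ↔ x ∈ W ∧ polar ⇑Q v x = 0 := by
  unfold perpIn
  rw [Submodule.mem_inf, mem_orth_span_singleton]

theorem perpIn_le (W : Submodule F (ι → F)) (v : ι → F) : perpIn Q W v ≤ W := inf_le_left

theorem finrank_perpIn_ge (hQ : (polarBilin Q).Nondegenerate) (W : Submodule F (ι → F))
    (v : ι → F) : finrank F W ≤ finrank F (perpIn Q W v) + 1 := by
  have h2 := finrank_inf_orth hQ W (Submodule.span F ({v} : Set (ι → F)))
  have h3 : finrank F (Submodule.span F ({v} : Set (ι → F))) ≤ 1 := by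
    have := finrank_span_le_card (R := F) ({v} : Set (ι → F))
    simpa using this
  unfold perpIn
  omega

section nd
variable {W : Submodule F (ι → F)} (hW : Cfsg.Geo.IsNondegenerateOn (polar ⇑Q) W)

include hW in
/-- a singular partner inside the subspace -/
theorem exists_partner_in {a : ι → F} (ha : a ∈ W) (ha0 : a ≠ 0) (hQa : Q a = 0) :
    ∃ f ∈ W, Q f = 0 ∧ polar ⇑Q a f = 1 := by
  obtain ⟨y, hy, hya⟩ := (hW a ha ha0).2
  obtain ⟨y', hy'def⟩ : ∃ y', y' = (polar ⇑Q a y)⁻¹ • y := ⟨_, rfl⟩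
  have hy'W : y' ∈ W := by rw [hy'def]; exact W.smul_mem _ hy
  have hay' : polar ⇑Q a y' = 1 := by
    rw [hy'def, polar_smul_right, smul_eq_mul, inv_mul_cancel₀ hya]
  refine ⟨y' - Q y' • a, W.sub_mem hy'W (W.smul_mem _ ha), ?_, ?_⟩
  · have e : y' - Q y' • a = y' + (-Q y') • a := by rw [neg_smul, sub_eq_add_neg]
    rw [e, QuadIsom.quad_add_smul, hQa, polar_comm, hay']
    ring
  · rw [polar_sub_right, polar_smul_right, polar_self, hQa, hay']
    simp

include hW in
/-- the perp of a non-singular vector of the subspace is non-degenerate -/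
theorem nondegOn_perpIn (h2 : (2 : F) ≠ 0) {v : ι → F} (hv : v ∈ W) (hQv : Q v ≠ 0) :
    Cfsg.Geo.IsNondegenerateOn (polar ⇑Q) (perpIn Q W v) := by
  have hvv : polar ⇑Q v v ≠ 0 := by
    rw [polar_self, two_smul, ← two_mul]
    exact mul_ne_zero h2 hQv
  have key : ∀ z ∈ perpIn Q W v, z ≠ 0 → ∃ x ∈ perpIn Q W v, polar ⇑Q x z ≠ 0 := by
    intro z hz hz0
    rw [mem_perpIn] at hz
    obtain ⟨x, hx, hxz⟩ := (hW z hz.1 hz0).1
    refine ⟨x - ((polar ⇑Q v v)⁻¹ * polar ⇑Q v x) • v, ?_, ?_⟩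
    · rw [mem_perpIn]
      refine ⟨W.sub_mem hx (W.smul_mem _ hv), ?_⟩
      rw [polar_sub_right, polar_smul_right, smul_eq_mul]
      field_simp
      ring
    · rw [polar_sub_left, polar_smul_left, hz.2, smul_zero, sub_zero]
      exact hxz
  intro z hz hz0
  obtain ⟨x, hx, hxz⟩ := key z hz hz0
  exact ⟨⟨x, hx, hxz⟩, ⟨x, hx, by rwa [polar_comm]⟩⟩

include hW in
/-- a non-zero non-degenerate subspace contains a non-singular vector -/
theorem exists_nonsing_in (h2 : (2 : F) ≠ 0) (hW0 : W ≠ ⊥) : ∃ b ∈ W, Q b ≠ 0 := by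
  by_contra hne
  push Not at hne
  obtain ⟨z, hz, hz0⟩ := Submodule.exists_mem_ne_zero_of_ne_bot hW0
  obtain ⟨x, hx, hxz⟩ := (hW z hz hz0).1
  apply hxz
  have := hne (x + z) (W.add_mem hx hz)
  rw [quad_add', hne x hx, hne z hz] at this
  simpa using this

include hW in
/-- the common perp of a hyperbolic pair of the subspace is non-degenerate -/
theorem nondegOn_perpIn_pair {a f : ι → F} (ha : a ∈ W) (hf : f ∈ W) (hQa : Q a = 0)
    (hQf : Q f = 0) (haf : polar ⇑Q a f = 1) :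
    Cfsg.Geo.IsNondegenerateOn (polar ⇑Q) (perpIn Q (perpIn Q W a) f) := by
  have key : ∀ z ∈ perpIn Q (perpIn Q W a) f, z ≠ 0 →
      ∃ x ∈ perpIn Q (perpIn Q W a) f, polar ⇑Q x z ≠ 0 := by
    intro z hz hz0
    rw [mem_perpIn, mem_perpIn] at hz
    obtain ⟨x, hx, hxz⟩ := (hW z hz.1.1 hz0).1
    refine ⟨x - polar ⇑Q f x • a - polar ⇑Q a x • f, ?_, ?_⟩
    · rw [mem_perpIn, mem_perpIn]
      refine ⟨⟨W.sub_mem (W.sub_mem hx (W.smul_mem _ ha)) (W.smul_mem _ hf), ?_⟩, ?_⟩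
      · rw [polar_sub_right, polar_sub_right, polar_smul_right, polar_smul_right, polar_self,
          hQa, haf]
        simp
      · rw [polar_sub_right, polar_sub_right, polar_smul_right, polar_smul_right, polar_self,
          hQf, polar_comm ⇑Q f a, haf]
        simp
    · rw [polar_sub_left, polar_sub_left, polar_smul_left, polar_smul_left, hz.1.2, hz.2]
      simpa using hxz
  intro z hz hz0
  obtain ⟨x, hx, hxz⟩ := key z hz hz0
  exact ⟨⟨x, hx, hxz⟩, ⟨x, hx, by rwa [polar_comm]⟩⟩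

include hW in
/-- a non-singular vector orthogonal to a hyperbolic pair, in dimension at least three -/
theorem exists_nonsing_perp_pair (hQ : (polarBilin Q).Nondegenerate) (h2 : (2 : F) ≠ 0)
    (h3 : 3 ≤ finrank F W) {a f : ι → F} (ha : a ∈ W) (hf : f ∈ W) (hQa : Q a = 0)
    (hQf : Q f = 0) (haf : polar ⇑Q a f = 1) :
    ∃ c ∈ W, polar ⇑Q a c = 0 ∧ polar ⇑Q f c = 0 ∧ Q c ≠ 0 := by
  have h4 := finrank_perpIn_ge hQ W a
  have h5 := finrank_perpIn_ge hQ (perpIn Q W a) f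
  have hne : perpIn Q (perpIn Q W a) f ≠ ⊥ := by
    intro h0
    rw [h0, finrank_bot] at h5
    omega
  obtain ⟨c, hc, hQc⟩ := exists_nonsing_in (nondegOn_perpIn_pair hW ha hf hQa hQf haf) h2 hne
  rw [mem_perpIn, mem_perpIn] at hc
  exact ⟨c, hc.1.1, hc.1.2, hc.2, hQc⟩

include hW in
theorem inf_orth_eq_bot' : W ⊓ orth Q W = ⊥ := inf_orth_eq_bot hW

end nd

end Cfsg.Agent.Lib.Helper5.OddWr
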