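import Mathlib
import Cfsg.Prelude
import Cfsg.Agent.Lib.Helper5.OddWr.Geom
import Cfsg.Agent.Lib.Helper5.ReflClass

set_option autoImplicit false
set_option linter.unusedSectionVars false
set_option linter.unusedVariables false
open Cfsg

/-! Frames of non-degenerate subspaces of dimension two and three, and rotations of planes. -/

namespace Cfsg.Agent.Lib.Helper5.OddWr

open Matrix QuadraticMap Module Cfsg.Agent.Lib.Helper5.CartanDieudonne Cfsg.Agent.Lib.Helper5.Refl
  Cfsg.Agent.Lib.Helper5.Siegel Cfsg.Agent.Lib.Helper5.QuadIsom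
  Cfsg.Agent.Lib.Helper5.MaxTS
  Cfsg.Agent.Lib.Helper5.OrthPairMax Cfsg.Agent.Lib.Helper5.OrthNondegMax
  Cfsg.Agent.Lib.Helper5.OrthNondegSub

variable {ι : Type} [Fintype ι] [DecidableEq ι] {F : Type*} [Field F] [Fintype F]
  {Q : QuadraticForm F (ι → F)}

/-- a hyperbolic pair and a non-singular vector orthogonal to it span a subspace of
dimension three -/
theorem frame3 (h2 : (2 : F) ≠ 0) {W : Submodule F (ι → F)} (h3 : finrank F W = 3)
    {a f c : ι → F} (ha : a ∈ W) (hf : f ∈ W) (hc : c ∈ W) (hQa : Q a = 0) (hQf : Q f = 0)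
    (haf : polar ⇑Q a f = 1) (hac : polar ⇑Q a c = 0) (hfc : polar ⇑Q f c = 0) (hQc : Q c ≠ 0) :
    ∀ v ∈ W, ∃ α β γ : F, v = α • a + β • f + γ • c := by
  have hli : LinearIndependent F ![a, f, c] := by
    rw [Fintype.linearIndependent_iff]
    intro g hg
    rw [Fin.sum_univ_three] at hg
    simp only [Matrix.cons_val_zero, Matrix.cons_val_one, Matrix.cons_val_two,
      Matrix.head_cons, Matrix.tail_cons] at hg
    have e1 := congrArg (fun x => polar ⇑Q f x) hg
    have e2 := congrArg (fun x => polar ⇑Q a x) hg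
    have e3 := congrArg (fun x => polar ⇑Q c x) hg
    simp only [polar_add_right, polar_smul_right, polar_zero_right, polar_self, hQa, hQf,
      haf, hac, hfc, polar_comm ⇑Q f a, polar_comm ⇑Q c a, polar_comm ⇑Q c f, smul_eq_mul,
      mul_zero, mul_one, add_zero, zero_add, smul_zero] at e1 e2 e3
    have e3' : g 2 = 0 := by
      rw [two_smul, ← two_mul] at e3
      rcases mul_eq_zero.mp e3 with h | h
      · exact h
      · exact absurd h (mul_ne_zero h2 hQc)
    intro i
    fin_cases i
    · exact e1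
    · exact e2
    · exact e3'
  have hspan : Submodule.span F (Set.range ![a, f, c]) = W := by
    apply Submodule.eq_of_le_of_finrank_eq
    · rw [Submodule.span_le]
      rintro _ ⟨i, rfl⟩
      fin_cases i
      · exact ha
      · exact hf
      · exact hc
    · rw [finrank_span_eq_card hli, Fintype.card_fin, h3]
  intro v hv
  rw [← hspan, Submodule.mem_span_range_iff_exists_fun] at hv
  obtain ⟨g, hg⟩ := hv
  rw [Fin.sum_univ_three] at hg
  simp only [Matrix.cons_val_zero, Matrix.cons_val_one, Matrix.cons_val_two,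
    Matrix.head_cons, Matrix.tail_cons] at hg
  exact ⟨g 0, g 1, g 2, hg.symm⟩

/-- in a frame of a three-dimensional subspace, the perp of the singular vector `a` is spanned by
`a` and `c` -/
theorem frame3_perp (h2 : (2 : F) ≠ 0) {W : Submodule F (ι → F)} (h3 : finrank F W = 3)
    {a f c : ι → F} (ha : a ∈ W) (hf : f ∈ W) (hc : c ∈ W) (hQa : Q a = 0) (hQf : Q f = 0)
    (haf : polar ⇑Q a f = 1) (hac : polar ⇑Q a c = 0) (hfc : polar ⇑Q f c = 0) (hQc : Q c ≠ 0) :
    ∀ v ∈ W, polar ⇑Q a v = 0 → ∃ α γ : F, v = α • a + γ • c := by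
  intro v hv hav
  obtain ⟨α, β, γ, rfl⟩ := frame3 h2 h3 ha hf hc hQa hQf haf hac hfc hQc v hv
  rw [polar_add_right, polar_add_right, polar_smul_right, polar_smul_right, polar_smul_right,
    polar_self, hQa, haf, hac] at hav
  simp only [smul_zero, smul_eq_mul, mul_zero, mul_one, zero_add, add_zero] at hav
  refine ⟨α, γ, ?_⟩
  rw [hav, zero_smul, add_zero]

/-- two independent vectors span a subspace of dimension two -/
theorem frame2 {Y : Submodule F (ι → F)} (h : finrank F Y = 2) {v w : ι → F} (hv : v ∈ Y)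
    (hw : w ∈ Y) (hli : ∀ s t : F, s • v + t • w = 0 → s = 0 ∧ t = 0) :
    ∀ y ∈ Y, ∃ α β : F, y = α • v + β • w := by
  have hli' : LinearIndependent F ![v, w] := LinearIndependent.pair_iff.mpr hli
  have hspan : Submodule.span F (Set.range ![v, w]) = Y := by
    apply Submodule.eq_of_le_of_finrank_eq
    · rw [Submodule.span_le]
      rintro _ ⟨i, rfl⟩
      fin_cases i
      · exact hv
      · exact hw
    · rw [finrank_span_eq_card hli', Fintype.card_fin, h]
  intro y hy
  rw [← hspan, Submodule.mem_span_range_iff_exists_fun] at hy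
  obtain ⟨g, hg⟩ := hy
  rw [Fin.sum_univ_two] at hg
  simp only [Matrix.cons_val_zero, Matrix.cons_val_one, Matrix.head_cons] at hg
  exact ⟨g 0, g 1, hg.symm⟩

theorem pair_indep {v w : ι → F} (hv0 : v ≠ 0)
    (hw : w ∉ Submodule.span F ({v} : Set (ι → F))) :
    ∀ s t : F, s • v + t • w = 0 → s = 0 ∧ t = 0 := by
  intro s t hst
  have ht : t = 0 := by
    by_contra ht
    apply hw
    have : w = (-(t⁻¹ * s)) • v := by
      have h1 : t • w = (-s) • v := by
        rw [neg_smul]
        exact eq_neg_of_add_eq_zero_right hst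
      have h2 : w = t⁻¹ • (t • w) := by rw [smul_smul, inv_mul_cancel₀ ht, one_smul]
      rw [h2, h1, smul_smul]
      congr 1
      ring
    rw [this]
    exact Submodule.smul_mem _ _ (Submodule.subset_span (by simp))
  rw [ht, zero_smul, add_zero] at hst
  exact ⟨(smul_eq_zero.mp hst).resolve_right hv0, ht⟩

/-- a rotation `r_v r_w` of a non-degenerate plane with `v`, `w` independent and not orthogonal
has no eigenvector with eigenvalue `±1` -/
theorem rot_eigen_eq_zero {Y : Submodule F (ι → F)}
    (hY : Cfsg.Geo.IsNondegenerateOn (polar ⇑Q) Y) {v w : ι → F} (hQv : Q v ≠ 0)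
    (hQw : Q w ≠ 0) (hp : polar ⇑Q v w ≠ 0)
    (hli : ∀ s t : F, s • v + t • w = 0 → s = 0 ∧ t = 0)
    (hspan : ∀ y ∈ Y, ∃ α β : F, y = α • v + β • w) {y : ι → F} (hy : y ∈ Y) {ε : F}
    (hε : ε = 1 ∨ ε = -1)
    (h : act Q (reflection Q v hQv * reflection Q w hQw) y = ε • y) : y = 0 := by
  have h1 : act Q (reflection Q w hQw) y = ε • act Q (reflection Q v hQv) y := by
    have h3 : act Q (reflection Q v hQv) (act Q (reflection Q v hQv * reflection Q w hQw) y) =
        act Q (reflection Q v hQv) (ε • y) := by rw [h]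
    rw [act_mul, ← act_mul Q (reflection Q v hQv) (reflection Q v hQv),
      ReflClass.reflection_mul_self', ReflClass.act_one, Siegel.act_smul] at h3
    exact h3
  rw [act_reflection, act_reflection] at h1
  rcases hε with rfl | rfl
  · rw [one_smul] at h1
    have h3 : ((Q v)⁻¹ * polar ⇑Q v y) • v + (-((Q w)⁻¹ * polar ⇑Q w y)) • w = 0 := by
      have : ((Q v)⁻¹ * polar ⇑Q v y) • v + (-((Q w)⁻¹ * polar ⇑Q w y)) • w =
          (y - ((Q w)⁻¹ * polar ⇑Q w y) • w) - (y - ((Q v)⁻¹ * polar ⇑Q v y) • v) := by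
        rw [neg_smul]; abel
      rw [this, h1, sub_self]
    obtain ⟨e1, e2⟩ := hli _ _ h3
    have hvy : polar ⇑Q v y = 0 := (mul_eq_zero.mp e1).resolve_left (inv_ne_zero hQv)
    have hwy : polar ⇑Q w y = 0 := by
      rw [neg_eq_zero] at e2
      exact (mul_eq_zero.mp e2).resolve_left (inv_ne_zero hQw)
    by_contra hy0
    obtain ⟨x, hx, hxy⟩ := (hY y hy hy0).1
    obtain ⟨α, β, rfl⟩ := hspan x hx
    apply hxy
    rw [polar_add_left, polar_smul_left, polar_smul_left, hvy, hwy, smul_zero, smul_zero,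
      add_zero]
  · obtain ⟨α, β, rfl⟩ := hspan y hy
    have hpw : polar ⇑Q w (α • v + β • w) = α * polar ⇑Q v w + β * (2 * Q w) := by
      rw [polar_add_right, polar_smul_right, polar_smul_right, polar_self, polar_comm ⇑Q w v,
        two_smul, ← two_mul, smul_eq_mul, smul_eq_mul]
    have hpv : polar ⇑Q v (α • v + β • w) = α * (2 * Q v) + β * polar ⇑Q v w := by
      rw [polar_add_right, polar_smul_right, polar_smul_right, polar_self,
        two_smul, ← two_mul, smul_eq_mul, smul_eq_mul]
    rw [hpw, hpv] at h1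
    have h3 : (2 * α - (Q v)⁻¹ * (α * (2 * Q v) + β * polar ⇑Q v w)) • v +
        (2 * β - (Q w)⁻¹ * (α * polar ⇑Q v w + β * (2 * Q w))) • w = 0 := by
      have : (2 * α - (Q v)⁻¹ * (α * (2 * Q v) + β * polar ⇑Q v w)) • v +
          (2 * β - (Q w)⁻¹ * (α * polar ⇑Q v w + β * (2 * Q w))) • w =
          (α • v + β • w - ((Q w)⁻¹ * (α * polar ⇑Q v w + β * (2 * Q w))) • w) -
          (-1 : F) • (α • v + β • w - ((Q v)⁻¹ * (α * (2 * Q v) + β * polar ⇑Q v w)) • v) := by
        module
      rw [this, h1, sub_self]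
    obtain ⟨e1, e2⟩ := hli _ _ h3
    have hβ : β = 0 := by
      have : β * polar ⇑Q v w = 0 := by
        field_simp at e1
        linear_combination -e1
      exact (mul_eq_zero.mp this).resolve_right hp
    have hα : α = 0 := by
      have : α * polar ⇑Q v w = 0 := by
        field_simp at e2
        linear_combination -e2
      exact (mul_eq_zero.mp this).resolve_right hp
    rw [hα, hβ, zero_smul, zero_smul, add_zero]

end Cfsg.Agent.Lib.Helper5.OddWr
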