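import Mathlib
import Cfsg.Prelude
import Cfsg.Agent.Lib.Helper5.OddWr.Elems

set_option autoImplicit false
set_option linter.unusedSectionVars false
set_option linter.unusedVariables false
open Cfsg

/-! Isometries swapping two isometric blocks of an orthogonal decomposition, and block
three-cycles in `Ω`. -/

namespace Cfsg.Agent.Lib.Helper5.OddWr

open Matrix QuadraticMap Module Cfsg.Agent.Lib.Helper5.CartanDieudonne Cfsg.Agent.Lib.Helper5.Refl
  Cfsg.Agent.Lib.Helper5.OrthCard Cfsg.Agent.Lib.Helper5.Siegel Cfsg.Agent.Lib.Helper5.QuadIsom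
  Cfsg.Agent.Lib.Helper5.Eichler Cfsg.Agent.Lib.Helper5.OmegaSimple
  Cfsg.Agent.Lib.Helper5.MaxTS Cfsg.Agent.Lib.Helper5.SpinorNorm
  Cfsg.Agent.Lib.Helper5.SpSingularMax Cfsg.Agent.Lib.Helper5.OrthSingularMax
  Cfsg.Agent.Lib.Helper5.OrthPairMax Cfsg.Agent.Lib.Helper5.OrthNondegMax
  Cfsg.Agent.Lib.Helper5.OrthNondegSub
open scoped commutatorElement

variable {ι : Type} [Fintype ι] [DecidableEq ι] {F : Type*} [Field F] [Fintype F]
  {Q : QuadraticForm F (ι → F)} {t k : ℕ} {D : Fin t → Submodule F (ι → F)}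

section swap
variable (hQ : (polarBilin Q).Nondegenerate)
  (hD : Cfsg.Geo.IsNondegenerateMDecomposition (polar ⇑Q) k D)

/-- the component of a vector in the block `j`, as an element of the block -/
noncomputable def cmpS (j : Fin t) : (ι → F) →ₗ[F] D j :=
  LinearMap.codRestrict (D j) (cmp hQ hD j) (cmp_mem hQ hD j)

theorem coe_cmpS (j : Fin t) (x : ι → F) : ((cmpS hQ hD j x : D j) : ι → F) = cmp hQ hD j x := rfl

variable {i j : Fin t} (e : D i ≃ₗ[F] D j)

/-- the linear map swapping the blocks `i` and `j` through `e` -/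
noncomputable def swapMap : (ι → F) →ₗ[F] (ι → F) :=
  LinearMap.id - cmp hQ hD i - cmp hQ hD j +
    (D j).subtype ∘ₗ (e : D i →ₗ[F] D j) ∘ₗ cmpS hQ hD i +
    (D i).subtype ∘ₗ (e.symm : D j →ₗ[F] D i) ∘ₗ cmpS hQ hD j

theorem swapMap_apply (x : ι → F) : swapMap hQ hD e x =
    x - cmp hQ hD i x - cmp hQ hD j x + ((e (cmpS hQ hD i x) : D j) : ι → F) +
      ((e.symm (cmpS hQ hD j x) : D i) : ι → F) := rfl

variable (hij : i ≠ j)

include hij in
theorem cmp_swapMap_left (x : ι → F) :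
    cmp hQ hD i (swapMap hQ hD e x) = ((e.symm (cmpS hQ hD j x) : D i) : ι → F) := by
  rw [swapMap_apply, map_add, map_add, map_sub, map_sub, cmp_cmp, cmp_cmp_ne hQ hD hij.symm,
    cmp_of_mem_ne hQ hD hij.symm (e (cmpS hQ hD i x)).2, cmp_of_mem hQ hD (e.symm _).2]
  simp

include hij in
theorem cmp_swapMap_right (x : ι → F) :
    cmp hQ hD j (swapMap hQ hD e x) = ((e (cmpS hQ hD i x) : D j) : ι → F) := by
  rw [swapMap_apply, map_add, map_add, map_sub, map_sub, cmp_cmp, cmp_cmp_ne hQ hD hij,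
    cmp_of_mem hQ hD (e (cmpS hQ hD i x)).2, cmp_of_mem_ne hQ hD hij (e.symm _).2]
  simp

theorem cmp_swapMap_ne {l : Fin t} (hli : l ≠ i) (hlj : l ≠ j) (x : ι → F) :
    cmp hQ hD l (swapMap hQ hD e x) = cmp hQ hD l x := by
  rw [swapMap_apply, map_add, map_add, map_sub, map_sub, cmp_cmp_ne hQ hD hli.symm,
    cmp_cmp_ne hQ hD hlj.symm, cmp_of_mem_ne hQ hD hlj.symm (e (cmpS hQ hD i x)).2,
    cmp_of_mem_ne hQ hD hli.symm (e.symm _).2]
  simp

include hij in
theorem swapMap_involutive : Function.Involutive (swapMap hQ hD e) := by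
  intro x
  have h1 : cmpS hQ hD i (swapMap hQ hD e x) = e.symm (cmpS hQ hD j x) :=
    Subtype.ext (cmp_swapMap_left hQ hD e hij x)
  have h2 : cmpS hQ hD j (swapMap hQ hD e x) = e (cmpS hQ hD i x) :=
    Subtype.ext (cmp_swapMap_right hQ hD e hij x)
  rw [swapMap_apply hQ hD e (swapMap hQ hD e x), h1, h2, cmp_swapMap_left hQ hD e hij,
    cmp_swapMap_right hQ hD e hij, LinearEquiv.apply_symm_apply, LinearEquiv.symm_apply_apply,
    swapMap_apply, coe_cmpS, coe_cmpS]
  abel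

include hij in
theorem quad_swapMap (h2 : (2 : F) ≠ 0)
    (he : ∀ w : D i, Q ((e w : D j) : ι → F) = Q (w : ι → F)) (x : ι → F) :
    Q (swapMap hQ hD e x) = Q x := by
  rw [quad_eq_sum hQ hD h2 (swapMap hQ hD e x), quad_eq_sum hQ hD h2 x,
    ← Equiv.sum_comp (Equiv.swap i j) (fun l => Q (cmp hQ hD l x))]
  apply Finset.sum_congr rfl
  intro l _
  by_cases hli : l = i
  · subst hli
    rw [Equiv.swap_apply_left, cmp_swapMap_left hQ hD e hij]
    have := he (e.symm (cmpS hQ hD j x))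
    rw [LinearEquiv.apply_symm_apply] at this
    rw [← this]
    rfl
  · by_cases hlj : l = j
    · subst hlj
      rw [Equiv.swap_apply_right, cmp_swapMap_right hQ hD e hij, he]
      rfl
    · rw [Equiv.swap_apply_of_ne_of_ne hli hlj, cmp_swapMap_ne hQ hD e hli hlj]

theorem swapMap_of_mem_left {x : ι → F} (hx : x ∈ D i) (hij : i ≠ j) :
    swapMap hQ hD e x = ((e ⟨x, hx⟩ : D j) : ι → F) := by
  have h1 : cmpS hQ hD i x = ⟨x, hx⟩ := Subtype.ext (cmp_of_mem hQ hD hx)
  have h2 : cmpS hQ hD j x = 0 := Subtype.ext (cmp_of_mem_ne hQ hD hij hx)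
  rw [swapMap_apply, h1, h2, cmp_of_mem hQ hD hx, cmp_of_mem_ne hQ hD hij hx]
  simp

theorem swapMap_of_mem_right {x : ι → F} (hx : x ∈ D j) (hij : i ≠ j) :
    swapMap hQ hD e x = ((e.symm ⟨x, hx⟩ : D i) : ι → F) := by
  have h1 : cmpS hQ hD j x = ⟨x, hx⟩ := Subtype.ext (cmp_of_mem hQ hD hx)
  have h2 : cmpS hQ hD i x = 0 := Subtype.ext (cmp_of_mem_ne hQ hD hij.symm hx)
  rw [swapMap_apply, h1, h2, cmp_of_mem hQ hD hx, cmp_of_mem_ne hQ hD hij.symm hx]
  simp

theorem swapMap_of_mem_ne {l : Fin t} (hli : l ≠ i) (hlj : l ≠ j) {x : ι → F} (hx : x ∈ D l) :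
    swapMap hQ hD e x = x := by
  have h1 : cmpS hQ hD j x = 0 := Subtype.ext (cmp_of_mem_ne hQ hD hlj hx)
  have h2 : cmpS hQ hD i x = 0 := Subtype.ext (cmp_of_mem_ne hQ hD hli hx)
  rw [swapMap_apply, h1, h2, cmp_of_mem_ne hQ hD hlj hx, cmp_of_mem_ne hQ hD hli hx]
  simp

end swap

section cycle
variable (hQ : (polarBilin Q).Nondegenerate)
  (hD : Cfsg.Geo.IsOrthogonalMDecomposition ⇑Q k D)

include hQ hD in
/-- an involutory isometry swapping two blocks and fixing the other blocks pointwise -/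
theorem exists_block_swap (h2 : (2 : F) ≠ 0) {i j : Fin t} (hij : i ≠ j) :
    ∃ A : ↥(isometryGroup F ⇑Q), A * A = 1 ∧ (∀ x ∈ D i, act Q A x ∈ D j) ∧
      (∀ x ∈ D j, act Q A x ∈ D i) ∧ ∀ l, l ≠ i → l ≠ j → ∀ x ∈ D l, act Q A x = x := by
  obtain ⟨e, he⟩ := hD.isometric i j
  obtain ⟨A, hA⟩ := exists_isom_of_linearEquiv Q
    (LinearEquiv.ofInvolutive (swapMap hQ hD.decomp e) (swapMap_involutive hQ hD.decomp e hij))
    (fun v => quad_swapMap hQ hD.decomp e hij h2 he v)
  have hA' : ∀ v, act Q A v = swapMap hQ hD.decomp e v := hA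
  refine ⟨A, ?_, ?_, ?_, ?_⟩
  · apply ext_act
    intro x
    rw [act_mul, hA', hA', swapMap_involutive hQ hD.decomp e hij x]
    show x = (1 : Matrix ι ι F) *ᵥ x
    rw [one_mulVec]
  · intro x hx
    rw [hA', swapMap_of_mem_left hQ hD.decomp e hx hij]
    exact (e ⟨x, hx⟩).2
  · intro x hx
    rw [hA', swapMap_of_mem_right hQ hD.decomp e hx hij]
    exact (e.symm ⟨x, hx⟩).2
  · intro l hli hlj x hx
    rw [hA', swapMap_of_mem_ne hQ hD.decomp e hli hlj hx]

include hQ hD in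
/-- a block three-cycle in the stabiliser of the decomposition in `Ω` -/
theorem exists_block_cycle (h2 : (2 : F) ≠ 0) {i j l : Fin t} (hij : i ≠ j) (hjl : j ≠ l)
    (hil : i ≠ l) :
    ∃ c : ↥(isometryGroup F ⇑Q),
      (c : Matrix.GeneralLinearGroup ι F) ∈
        Cfsg.Geo.decompositionStabilizer D ⊓ Cfsg.Geo.omegaGL ⇑Q ∧
      (∀ x ∈ D i, act Q c x ∈ D l) ∧ (∀ x ∈ D l, act Q c x ∈ D j) ∧
      (∀ x ∈ D j, act Q c x ∈ D i) := by
  obtain ⟨A, hAA, hA1, hA2, hA3⟩ := exists_block_swap hQ hD h2 hij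
  obtain ⟨B, hBB, hB1, hB2, hB3⟩ := exists_block_swap hQ hD h2 hjl
  have hAi : A⁻¹ = A := inv_eq_of_mul_eq_one_left hAA
  have hBi : B⁻¹ = B := inv_eq_of_mul_eq_one_left hBB
  have hc : ⁅A, B⁆ = A * B * (A * B) := by
    rw [commutatorElement_def, hAi, hBi, mul_assoc, mul_assoc]
  -- the action of `A * B` on the three blocks
  have hABi : ∀ x ∈ D i, act Q (A * B) x ∈ D j := by
    intro x hx
    rw [act_mul, hB3 i hij hil x hx]
    exact hA1 x hx
  have hABj : ∀ x ∈ D j, act Q (A * B) x ∈ D l := by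
    intro x hx
    rw [act_mul, hA3 l hil.symm hjl.symm _ (hB1 x hx)]
    exact hB1 x hx
  have hABl : ∀ x ∈ D l, act Q (A * B) x ∈ D i := by
    intro x hx
    rw [act_mul]
    exact hA2 _ (hB2 x hx)
  have hABo : ∀ p, p ≠ i → p ≠ j → p ≠ l → ∀ x ∈ D p, act Q (A * B) x = x := by
    intro p hpi hpj hpl x hx
    rw [act_mul, hB3 p hpj hpl x hx, hA3 p hpi hpj x hx]
  refine ⟨⁅A, B⁆, ?_, ?_, ?_, ?_⟩
  · rw [Subgroup.mem_inf]
    constructor
    · -- the permutation `i → l → j → i`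
      apply mem_decompStab_of_map_le hD.decomp.decomp _
        ((Equiv.swap i j * Equiv.swap j l) * (Equiv.swap i j * Equiv.swap j l))
      intro p x hx
      have e : ((⁅A, B⁆ : ↥(isometryGroup F ⇑Q)) : Matrix.GeneralLinearGroup ι F).1 *ᵥ x =
          act Q ⁅A, B⁆ x := rfl
      rw [e, hc, act_mul]
      have hσ : ∀ p' : Fin t, ∀ y ∈ D p', act Q (A * B) y ∈
          D ((Equiv.swap i j * Equiv.swap j l) p') := by
        intro p' y hy
        rw [Equiv.Perm.mul_apply]
        by_cases hpi : p' = i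
        · subst hpi
          rw [Equiv.swap_apply_of_ne_of_ne hij hil, Equiv.swap_apply_left]
          exact hABi y hy
        · by_cases hpj : p' = j
          · subst hpj
            rw [Equiv.swap_apply_left, Equiv.swap_apply_of_ne_of_ne hil.symm hjl.symm]
            exact hABj y hy
          · by_cases hpl : p' = l
            · subst hpl
              rw [Equiv.swap_apply_right, Equiv.swap_apply_right]
              exact hABl y hy
            · rw [Equiv.swap_apply_of_ne_of_ne hpj hpl, Equiv.swap_apply_of_ne_of_ne hpi hpj,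
                hABo p' hpi hpj hpl y hy]
              exact hy
      rw [Equiv.Perm.mul_apply]
      exact hσ _ _ (hσ p x hx)
    · rw [mem_omegaGL_iff]
      refine ⟨_, ?_, rfl⟩
      show ⁅A, B⁆ ∈ commutator _
      exact Subgroup.commutator_mem_commutator (Subgroup.mem_top _) (Subgroup.mem_top _)
  · intro x hx
    rw [hc, act_mul]
    exact hABj _ (hABi x hx)
  · intro x hx
    rw [hc, act_mul]
    exact hABi _ (hABl x hx)
  · intro x hx
    rw [hc, act_mul]
    exact hABl _ (hABj x hx)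

end cycle

end Cfsg.Agent.Lib.Helper5.OddWr
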