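import Mathlib
import Cfsg.Prelude
import Cfsg.Agent.Lib.Helper5.OddWr.Swap

set_option autoImplicit false
set_option linter.unusedSectionVars false
set_option linter.unusedVariables false
open Cfsg

/-! An overgroup of the stabiliser of an orthogonal decomposition containing a root subgroup
which joins a singular vector of a block to a vector outside the block contains `Ω`. -/

namespace Cfsg.Agent.Lib.Helper5.OddWr

open Matrix QuadraticMap Module Cfsg.Agent.Lib.Helper5.CartanDieudonne Cfsg.Agent.Lib.Helper5.Refl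
  Cfsg.Agent.Lib.Helper5.OrthCard Cfsg.Agent.Lib.Helper5.Siegel Cfsg.Agent.Lib.Helper5.QuadIsom
  Cfsg.Agent.Lib.Helper5.Eichler Cfsg.Agent.Lib.Helper5.OmegaSimple
  Cfsg.Agent.Lib.Helper5.MaxTS Cfsg.Agent.Lib.Helper5.SpinorNorm
  Cfsg.Agent.Lib.Helper5.SpSingularMax Cfsg.Agent.Lib.Helper5.OrthSingularMax
  Cfsg.Agent.Lib.Helper5.OrthPairMax Cfsg.Agent.Lib.Helper5.OrthNondegMax
  Cfsg.Agent.Lib.Helper5.OrthNondegSub

variable {ι : Type} [Fintype ι] [DecidableEq ι] {F : Type*} [Field F] [Fintype F]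
  {Q : QuadraticForm F (ι → F)} {t k : ℕ} {D : Fin t → Submodule F (ι → F)}
  {M : Subgroup (Matrix.GeneralLinearGroup ι F)}

/-- propagation: a root subgroup joining a singular vector of `A` to a vector with non-zero
`B`-component joins it to all of `B` -/
theorem inE_all_of_component {A B : Submodule F (ι → F)} (h : OPair Q A B)
    (hQ : (polarBilin Q).Nondegenerate)
    (hKB : ∀ u ∈ B, Q u = 0 → ∀ z ∈ B, polar ⇑Q u z = 0 → InE Q M u z)
    (hdim : 3 ≤ finrank F B) {a : ι → F} (haA : a ∈ A) (hQa : Q a = 0)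
    {w wA wB : ι → F} (hwA : wA ∈ A) (hwB : wB ∈ B) (hw : wA + wB = w) (hwB0 : wB ≠ 0)
    (hE : InE Q M a w) : ∀ b ∈ B, InE Q M a b := by
  have hs := h.symm
  obtain ⟨b₁, hb₁B, hQb₁, hb₁w⟩ := hs.exists_sing_not_perp hQ hdim hwB hwB0
  have hlt : ¬ (B ⊓ MaxTS.orth Q (Submodule.span F ({b₁} : Set (ι → F))) ≤
      Submodule.span F ({b₁} : Set (ι → F))) := by
    intro hle
    have h1 := Submodule.finrank_mono hle
    have h2 := finrank_inf_orth hQ B (Submodule.span F ({b₁} : Set (ι → F)))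
    have h3 : finrank F (Submodule.span F ({b₁} : Set (ι → F))) ≤ 1 := by
      have := finrank_span_le_card (R := F) ({b₁} : Set (ι → F))
      simpa using this
    omega
  obtain ⟨b₂, hb₂S, hb₂n⟩ := SetLike.not_le_iff_exists.mp hlt
  have hb₂B : b₂ ∈ B := hb₂S.1
  have hb₁₂ : polar ⇑Q b₁ b₂ = 0 :=
    (mem_orth Q _ b₂).mp hb₂S.2 b₁ (Submodule.subset_span (by simp))
  have hk := EG_mem_of_inE (hKB b₁ hb₁B hQb₁ b₂ hb₂B hb₁₂)
  have h3 := inE_conj (EG Q b₁ b₂) hk hE
  rw [act_EG Q b₁ b₂ hQb₁ hb₁₂ a, h.orth' haA hb₁B, h.orth' haA hb₂B] at h3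
  simp only [zero_smul, add_zero, mul_zero, neg_zero] at h3
  have h4 := inE_sub h3 hE
  rw [act_EG Q b₁ b₂ hQb₁ hb₁₂ w] at h4
  have e1 : polar ⇑Q b₁ w = polar ⇑Q b₁ wB := by
    rw [← hw, polar_add_right, h.orth' hwA hb₁B, zero_add]
  have e : w + polar ⇑Q b₁ w • b₂ + (-(polar ⇑Q b₂ w + Q b₂ * polar ⇑Q b₁ w)) • b₁ - w =
      polar ⇑Q b₁ wB • b₂ + (-(polar ⇑Q b₂ w + Q b₂ * polar ⇑Q b₁ w)) • b₁ := by
    rw [e1]; abel
  rw [e] at h4
  refine h.all_B_of_one hQ hKB hdim haA hQa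
    (B.add_mem (B.smul_mem _ hb₂B) (B.smul_mem _ hb₁B)) ?_ h4
  intro h0
  apply hb₂n
  have h5 : b₂ = ((polar ⇑Q b₁ wB)⁻¹ * (polar ⇑Q b₂ w + Q b₂ * polar ⇑Q b₁ w)) • b₁ := by
    have h6 : polar ⇑Q b₁ wB • b₂ = (polar ⇑Q b₂ w + Q b₂ * polar ⇑Q b₁ w) • b₁ := by
      rw [neg_smul, ← sub_eq_add_neg, sub_eq_zero] at h0
      exact h0
    rw [mul_smul, ← h6, smul_smul, inv_mul_cancel₀ hb₁w, one_smul]
  rw [h5]
  exact Submodule.smul_mem _ _ (Submodule.subset_span (by simp))

theorem inE_zero {a : ι → F} (ha : Q a = 0) : InE Q M a 0 := by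
  have := inE_sub (inE_self (M := M) ha) (inE_self (M := M) ha)
  rwa [sub_self] at this

theorem inE_sum {a : ι → F} (ha : Q a = 0) {α : Type*} (s : Finset α) (y : α → ι → F)
    (h : ∀ i ∈ s, InE Q M a (y i)) : InE Q M a (∑ i ∈ s, y i) := by
  classical
  induction s using Finset.induction_on with
  | empty => rw [Finset.sum_empty]; exact inE_zero ha
  | insert i s his ih =>
    rw [Finset.sum_insert his]
    exact inE_add (h i (Finset.mem_insert_self i s))
      (ih (fun j hj => h j (Finset.mem_insert_of_mem hj)))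

section one
variable (H : Hyp Q) (h2 : (2 : F) ≠ 0) (hD : Cfsg.Geo.IsOrthogonalMDecomposition ⇑Q k D)
  (hk : 3 ≤ k)
  (hKM : Cfsg.Geo.decompositionStabilizer D ⊓ Cfsg.Geo.omegaGL ⇑Q ≤ M)

/-- all root subgroups joining singular vectors of the block `j` to vectors of the block `l`
lie in `M` -/
def Rel (Q : QuadraticForm F (ι → F)) (D : Fin t → Submodule F (ι → F))
    (M : Subgroup (Matrix.GeneralLinearGroup ι F)) (j l : Fin t) : Prop :=
  ∀ u ∈ D j, u ≠ 0 → Q u = 0 → ∀ z ∈ D l, InE Q M u z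

include hD hk in
theorem finrank_block (j : Fin t) : 3 ≤ finrank F (D j) := by
  rw [hD.decomp.decomp.finrank_eq]; exact hk

include H hD in
theorem oPair_block (j : Fin t) : OPair Q (MaxTS.orth Q (D j)) (D j) :=
  (oPair_of_nondeg H.nondeg (hD.decomp.nondegenerate j)).symm

include H hD hk hKM in
/-- one singular vector of `D j` joined to all of `D l` gives `Rel l j` -/
theorem rel_of_one {j l : Fin t} (hjl : j ≠ l) {a : ι → F} (haj : a ∈ D j) (ha0 : a ≠ 0)
    (hQa : Q a = 0) (hall : ∀ b ∈ D l, InE Q M a b) : Rel Q D M l j := by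
  intro y hy hy0 hQy z hz
  have h1 : InE Q M y a := inE_symm (hall y hy) hQy
  refine inE_all_of_component (oPair_block H hD j) H.nondeg (inE_block H hD.decomp hKM j)
    (finrank_block hD hk j) (block_le_orth hD.decomp hjl.symm hy) hQy
    (Submodule.zero_mem _) haj (zero_add a) ha0 h1 z hz

include H hD hk hKM in
theorem rel_symm {j l : Fin t} (hjl : j ≠ l) (h : Rel Q D M j l) : Rel Q D M l j := by
  obtain ⟨a, haj, ha0, hQa⟩ := SingGeom.exists_singular_in Q (D j) (finrank_block hD hk j)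
  exact rel_of_one H hD hk hKM hjl haj ha0 hQa (h a haj ha0 hQa)

/-- transport of the relation by an element of `M` -/
theorem rel_transport {a b a' b' : Fin t} (g : ↥(isometryGroup F ⇑Q))
    (hg : (g : Matrix.GeneralLinearGroup ι F) ∈ M) (h1 : ∀ x ∈ D a', act Q g x ∈ D a)
    (h2' : ∀ x ∈ D b', act Q g x ∈ D b) (h : Rel Q D M a b) : Rel Q D M a' b' := by
  intro u hu hu0 hQu z hz
  have h3 := h (act Q g u) (h1 u hu) (fun h0 => hu0 (act_eq_zero g h0))
    (by rw [quad_act, hQu]) (act Q g z) (h2' z hz)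
  have h4 := inE_conj g⁻¹ (M.inv_mem hg) h3
  rwa [act_inv_act', act_inv_act'] at h4

include H h2 hD hk hKM in
/-- the relation spreads over three blocks -/
theorem rel_triple {j l l' : Fin t} (hjl : j ≠ l) (hjl' : j ≠ l') (hll' : l ≠ l')
    (h : Rel Q D M j l) : Rel Q D M l l' ∧ Rel Q D M l' j := by
  obtain ⟨c, hc, hc1, hc2, hc3⟩ := exists_block_cycle H.nondeg hD h2 hjl'.symm hjl hll'.symm
  -- `c : l' → l → j → l'`
  have hcM : (c : Matrix.GeneralLinearGroup ι F) ∈ M := hKM hc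
  refine ⟨rel_transport c hcM hc2 hc1 h, ?_⟩
  refine rel_transport (c * c) (M.mul_mem hcM hcM) ?_ ?_ h
  · intro x hx
    rw [act_mul]
    exact hc2 _ (hc1 x hx)
  · intro x hx
    rw [act_mul]
    exact hc1 _ (hc3 x hx)

include H h2 hD hk hKM in
theorem rel_all {j l : Fin t} (hjl : j ≠ l) (h : Rel Q D M j l) :
    ∀ a b : Fin t, a ≠ b → Rel Q D M a b := by
  have hlj := rel_symm H hD hk hKM hjl h
  -- first `Rel j b` for `b ≠ j`
  have h1 : ∀ b, b ≠ j → Rel Q D M j b := by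
    intro b hbj
    by_cases hbl : b = l
    · subst hbl; exact h
    · have := rel_triple H h2 hD hk hKM hjl (Ne.symm hbj) (Ne.symm hbl) h
      exact rel_symm H hD hk hKM hbj this.2
  intro a b hab
  by_cases hbj : b = j
  · subst hbj
    exact rel_symm H hD hk hKM hab.symm (h1 a hab)
  · by_cases haj : a = j
    · subst haj; exact h1 b hbj
    · have := rel_triple H h2 hD hk hKM (Ne.symm hbj) (Ne.symm haj) (Ne.symm hab) (h1 b hbj)
      exact rel_symm H hD hk hKM hab.symm this.1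

include H hD hKM in
/-- if all pairs of blocks are related, singular block vectors are centres -/
theorem isCentre_block_of_rel (hrel : ∀ a b : Fin t, a ≠ b → Rel Q D M a b) {j : Fin t}
    {a : ι → F} (haj : a ∈ D j) (ha0 : a ≠ 0) (hQa : Q a = 0) : IsCentre Q M a := by
  apply isCentre_of_inE_all hQa
  intro z haz
  rw [← sum_cmp H.nondeg hD.decomp z]
  apply inE_sum hQa
  intro l _
  by_cases hlj : l = j
  · subst hlj
    apply inE_block H hD.decomp hKM l a haj hQa _ (cmp_mem _ _ _ _)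
    rw [polar_cmp' H.nondeg hD.decomp l z haj, haz]
  · exact hrel j l (Ne.symm hlj) a haj ha0 hQa _ (cmp_mem _ _ _ _)

include H h2 hD hk hKM in
/-- Part 1: a mixed root subgroup forces `Ω ≤ M` -/
theorem omegaGL_le_of_mixed {j : Fin t} {a w : ι → F} (haj : a ∈ D j) (ha0 : a ≠ 0)
    (hQa : Q a = 0) (hE : InE Q M a w) (hw : w ∉ D j) : Cfsg.Geo.omegaGL ⇑Q ≤ M := by
  have hex : ∃ l, l ≠ j ∧ cmp H.nondeg hD.decomp l w ≠ 0 := by
    by_contra hne
    push Not at hne
    exact hw ((mem_block_iff H.nondeg hD.decomp w j).mpr hne)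
  obtain ⟨l, hlj, hwl⟩ := hex
  have hall : ∀ b ∈ D l, InE Q M a b :=
    inE_all_of_component (oPair_block H hD l) H.nondeg (inE_block H hD.decomp hKM l)
      (finrank_block hD hk l) (block_le_orth hD.decomp hlj.symm haj) hQa
      (sub_oproj_mem H.nondeg (hD.decomp.nondegenerate l) w) (cmp_mem H.nondeg hD.decomp l w)
      (sub_add_cancel w _) hwl hE
  have hrel := rel_all H h2 hD hk hKM hlj (rel_of_one H hD hk hKM hlj.symm haj ha0 hQa hall)
  obtain ⟨e, he, f, hf, hQe, hQf, hef⟩ :=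
    (oPair_block H hD j).symm.exists_hyp_pair H.nondeg (finrank_block hD hk j)
  have he0 : e ≠ 0 := by
    rintro rfl
    rw [polar_zero_left] at hef
    exact zero_ne_one hef
  have hf0 : f ≠ 0 := by
    rintro rfl
    rw [polar_zero_right] at hef
    exact zero_ne_one hef
  have hce := isCentre_block_of_rel H hD hKM hrel he he0 hQe
  have hcf := isCentre_block_of_rel H hD hKM hrel hf hf0 hQf
  apply omegaGL_le H
  exact all_of_two H hce hcf (by rw [hef]; exact one_ne_zero)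

end one

end Cfsg.Agent.Lib.Helper5.OddWr
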