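import Mathlib
import Cfsg.Prelude
import Cfsg.Agent.Lib.Helper5.OddWr.PartOne
import Cfsg.Agent.Lib.Helper5.OddWr.Geom

set_option autoImplicit false
set_option linter.unusedSectionVars false
set_option linter.unusedVariables false
open Cfsg

/-! Overgroups of the stabiliser of an orthogonal decomposition without mixed root subgroups:
first consequences. -/

namespace Cfsg.Agent.Lib.Helper5.OddWr

open Matrix QuadraticMap Module Cfsg.Agent.Lib.Helper5.CartanDieudonne Cfsg.Agent.Lib.Helper5.Refl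
  Cfsg.Agent.Lib.Helper5.OrthCard Cfsg.Agent.Lib.Helper5.Siegel Cfsg.Agent.Lib.Helper5.QuadIsom
  Cfsg.Agent.Lib.Helper5.Eichler Cfsg.Agent.Lib.Helper5.OmegaSimple
  Cfsg.Agent.Lib.Helper5.MaxTS Cfsg.Agent.Lib.Helper5.SpinorNorm
  Cfsg.Agent.Lib.Helper5.SpSingularMax Cfsg.Agent.Lib.Helper5.OrthSingularMax
  Cfsg.Agent.Lib.Helper5.OrthPairMax Cfsg.Agent.Lib.Helper5.OrthNondegMax
  Cfsg.Agent.Lib.Helper5.OrthNondegSub

variable {ι : Type} [Fintype ι] [DecidableEq ι] {F : Type*} [Field F] [Fintype F]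
  {Q : QuadraticForm F (ι → F)} {t k : ℕ} {D : Fin t → Submodule F (ι → F)}
  {M : Subgroup (Matrix.GeneralLinearGroup ι F)}

section two
variable (H : Hyp Q) (h2 : (2 : F) ≠ 0) (hD : Cfsg.Geo.IsOrthogonalMDecomposition ⇑Q k D)
  (hk : 3 ≤ k)
  (hKM : Cfsg.Geo.decompositionStabilizer D ⊓ Cfsg.Geo.omegaGL ⇑Q ≤ M)
  (hNM : ∀ j, ∀ a ∈ D j, a ≠ 0 → Q a = 0 → ∀ w, InE Q M a w → w ∈ D j)

include hNM in
/-- a vector joined to a non-zero singular vector of a block lies in the block -/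
theorem mem_block_of_inE_sing {j : Fin t} {x y : ι → F} (hy : y ∈ D j) (hy0 : y ≠ 0)
    (hQy : Q y = 0) (h : InE Q M x y) : x ∈ D j :=
  hNM j y hy hy0 hQy x (inE_symm h hQy)

include H hD hKM hNM in
/-- the root subgroups of `M` at the image of a singular block vector -/
theorem inE_act_iff (g : ↥(isometryGroup F ⇑Q)) (hg : (g : Matrix.GeneralLinearGroup ι F) ∈ M)
    {i : Fin t} {a : ι → F} (ha : a ∈ D i) (ha0 : a ≠ 0) (hQa : Q a = 0) (w : ι → F) :
    InE Q M (act Q g a) w ↔ ∃ v ∈ D i, polar ⇑Q a v = 0 ∧ act Q g v = w := by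
  constructor
  · intro h
    have h1 := inE_conj g⁻¹ (M.inv_mem hg) h
    rw [act_inv_act'] at h1
    refine ⟨act Q g⁻¹ w, hNM i a ha ha0 hQa _ h1, h1.2.1, ?_⟩
    have := act_inv_act' g⁻¹ w
    rwa [inv_inv] at this
  · rintro ⟨v, hv, hav, rfl⟩
    exact inE_conj g hg (inE_block H hD.decomp hKM i a ha hQa v hv hav)

include H hD hk hKM hNM in
/-- a root subgroup at `x` involves only the blocks in the support of `x` -/
theorem cmp_eq_zero_of_inE {x w : ι → F} (hx0 : x ≠ 0) {l : Fin t}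
    (hxl : cmp H.nondeg hD.decomp l x = 0) (hE : InE Q M x w) :
    cmp H.nondeg hD.decomp l w = 0 := by
  by_contra hwl
  have hall : ∀ b ∈ D l, InE Q M x b :=
    inE_all_of_component (oPair_block H hD l) H.nondeg (inE_block H hD.decomp hKM l)
      (finrank_block hD hk l) ((mem_orth_block_iff H.nondeg hD.decomp x l).mpr hxl) hE.1
      (sub_oproj_mem H.nondeg (hD.decomp.nondegenerate l) w) (cmp_mem H.nondeg hD.decomp l w)
      (sub_add_cancel w _) hwl hE
  obtain ⟨y, hy, hy0, hQy⟩ := SingGeom.exists_singular_in Q (D l) (finrank_block hD hk l)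
  have hxD := mem_block_of_inE_sing hNM hy hy0 hQy (hall y hy)
  rw [cmp_of_mem H.nondeg hD.decomp hxD] at hxl
  exact hx0 hxl

include H h2 hD hk hKM hNM in
/-- Claim F, singular component -/
theorem cmp_mem_span_sing {x w : ι → F} {j : Fin t} (hxj : x ∉ D j)
    (hxj0 : cmp H.nondeg hD.decomp j x ≠ 0) (hQxj : Q (cmp H.nondeg hD.decomp j x) = 0)
    (hE : InE Q M x w) :
    ∃ μ : F, cmp H.nondeg hD.decomp j w = μ • cmp H.nondeg hD.decomp j x := by
  obtain ⟨xj, hxjdef⟩ : ∃ xj, xj = cmp H.nondeg hD.decomp j x := ⟨_, rfl⟩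
  rw [← hxjdef] at hxj0 hQxj ⊢
  have hxjD : xj ∈ D j := by rw [hxjdef]; exact cmp_mem _ _ _ _
  have hpx : ∀ d ∈ D j, polar ⇑Q d x = polar ⇑Q d xj := by
    intro d hd
    rw [hxjdef, polar_cmp' H.nondeg hD.decomp j x hd]
  have hpw : ∀ d ∈ D j, polar ⇑Q d w = polar ⇑Q d (cmp H.nondeg hD.decomp j w) := by
    intro d hd
    rw [polar_cmp' H.nondeg hD.decomp j w hd]
  have hxx : polar ⇑Q xj x = 0 := by
    rw [hpx xj hxjD, polar_self, hQxj, smul_zero]
  -- no multiple of `xj` is joined to `x`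
  have hno : ¬ InE Q M x xj := fun h => hxj (mem_block_of_inE_sing hNM hxjD hxj0 hQxj h)
  have hno' : ∀ c : F, InE Q M x (c • xj) → c = 0 := by
    intro c hc
    by_contra hc0
    apply hno
    have := inE_smul_right c⁻¹ hc
    rwa [smul_smul, inv_mul_cancel₀ hc0, one_smul] at this
  -- moving `w` by root elements of the block fixing `x`
  have mv : ∀ b ∈ D j, polar ⇑Q xj b = 0 →
      InE Q M x (polar ⇑Q xj w • b + (-(polar ⇑Q b w + Q b * polar ⇑Q xj w)) • xj) := by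
    intro b hb hxb
    have hk' := EG_mem_of_inE (inE_block H hD.decomp hKM j xj hxjD hQxj b hb hxb)
    have h3 := inE_conj (EG Q xj b) hk' hE
    rw [act_EG Q xj b hQxj hxb x, hxx, hpx b hb, polar_comm, hxb] at h3
    simp only [zero_smul, add_zero, mul_zero, neg_zero] at h3
    have h4 := inE_sub h3 hE
    rw [act_EG Q xj b hQxj hxb w] at h4
    have e : w + polar ⇑Q xj w • b + (-(polar ⇑Q b w + Q b * polar ⇑Q xj w)) • xj - w =
        polar ⇑Q xj w • b + (-(polar ⇑Q b w + Q b * polar ⇑Q xj w)) • xj := by abel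
    rwa [e] at h4
  have hWj := hD.decomp.nondegenerate j
  obtain ⟨f, hf, hQf, hxf⟩ := exists_partner_in hWj hxjD hxj0 hQxj
  obtain ⟨c, hc, hxc, hfc, hQc⟩ := exists_nonsing_perp_pair hWj H.nondeg h2
    (finrank_block hD hk j) hxjD hf hQxj hQf hxf
  have hβ : polar ⇑Q xj w = 0 := by
    have h5 := inE_add (mv c hc hxc) (mv (-c) ((D j).neg_mem hc)
      (by rw [polar_neg_right, hxc, neg_zero]))
    have e : polar ⇑Q xj w • c + (-(polar ⇑Q c w + Q c * polar ⇑Q xj w)) • xj +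
        (polar ⇑Q xj w • -c + (-(polar ⇑Q (-c) w + Q (-c) * polar ⇑Q xj w)) • xj) =
        (-(2 * Q c * polar ⇑Q xj w)) • xj := by
      rw [polar_neg_left, QuadraticMap.map_neg]
      module
    rw [e] at h5
    have h6 := hno' _ h5
    rw [neg_eq_zero] at h6
    exact (mul_eq_zero.mp h6).resolve_left (mul_ne_zero h2 hQc)
  have hperp : ∀ b ∈ D j, polar ⇑Q xj b = 0 →
      polar ⇑Q b (cmp H.nondeg hD.decomp j w) = 0 := by
    intro b hb hxb
    have h5 := mv b hb hxb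
    rw [hβ, zero_smul, zero_add, mul_zero, add_zero] at h5
    have h6 := hno' _ h5
    rw [neg_eq_zero] at h6
    rw [← hpw b hb, h6]
  have hmem : cmp H.nondeg hD.decomp j w ∈ Submodule.span F ({xj} : Set (ι → F)) := by
    by_contra hnot
    obtain ⟨z, hz, hwz, hzp⟩ := (oPair_block H hD j).symm.dual_vec H.nondeg _
      (cmp_mem H.nondeg hD.decomp j w) (span_singleton_le hxjD) hnot
    apply hwz
    rw [polar_comm]
    exact hperp z hz (hzp xj (Submodule.subset_span (by simp)))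
  obtain ⟨μ, hμ⟩ := Submodule.mem_span_singleton.mp hmem
  exact ⟨μ, hμ.symm⟩

include H h2 hD hk hKM hNM in
/-- Claim F, non-singular component, blocks of dimension at least four -/
theorem cmp_mem_span_nonsing {x w : ι → F} {j : Fin t} (hk4 : 4 ≤ k) (hxj : x ∉ D j)
    (hQxj : Q (cmp H.nondeg hD.decomp j x) ≠ 0) (hE : InE Q M x w) :
    ∃ μ : F, cmp H.nondeg hD.decomp j w = μ • cmp H.nondeg hD.decomp j x := by
  obtain ⟨xj, hxjdef⟩ : ∃ xj, xj = cmp H.nondeg hD.decomp j x := ⟨_, rfl⟩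
  obtain ⟨wj, hwjdef⟩ : ∃ wj, wj = cmp H.nondeg hD.decomp j w := ⟨_, rfl⟩
  rw [← hxjdef] at hQxj ⊢
  rw [← hwjdef]
  have hxjD : xj ∈ D j := by rw [hxjdef]; exact cmp_mem _ _ _ _
  have hwjD : wj ∈ D j := by rw [hwjdef]; exact cmp_mem _ _ _ _
  have hxx : polar ⇑Q xj xj ≠ 0 := by
    rw [polar_self, two_smul, ← two_mul]
    exact mul_ne_zero h2 hQxj
  obtain ⟨μ, hμdef⟩ : ∃ μ, μ = (polar ⇑Q xj xj)⁻¹ * polar ⇑Q xj wj := ⟨_, rfl⟩
  refine ⟨μ, ?_⟩
  by_contra hne
  obtain ⟨y, hydef⟩ : ∃ y, y = wj - μ • xj := ⟨_, rfl⟩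
  have hy0 : y ≠ 0 := by
    rw [hydef]
    intro h0
    exact hne (sub_eq_zero.mp h0)
  have hWj := hD.decomp.nondegenerate j
  have hYnd := nondegOn_perpIn hWj h2 hxjD hQxj
  have hyY : y ∈ perpIn Q (D j) xj := by
    rw [mem_perpIn, hydef]
    refine ⟨(D j).sub_mem hwjD ((D j).smul_mem _ hxjD), ?_⟩
    rw [polar_sub_right, polar_smul_right, hμdef, smul_eq_mul]
    field_simp
    ring
  have hYdim : 3 ≤ finrank F (perpIn Q (D j) xj) := by
    have := finrank_perpIn_ge H.nondeg (D j) xj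
    rw [hD.decomp.decomp.finrank_eq] at this
    omega
  have hpx : ∀ d ∈ D j, polar ⇑Q d x = polar ⇑Q d xj := by
    intro d hd
    rw [hxjdef, polar_cmp' H.nondeg hD.decomp j x hd]
  have hpw : ∀ d ∈ D j, polar ⇑Q d w = polar ⇑Q d wj := by
    intro d hd
    rw [hwjdef, polar_cmp' H.nondeg hD.decomp j w hd]
  have hall : ∀ b ∈ perpIn Q (D j) xj, InE Q M x b := by
    refine inE_all_of_component (oPair_of_nondeg H.nondeg hYnd).symm H.nondeg ?_ hYdim ?_ hE.1
      (wA := w - y) ?_ hyY (sub_add_cancel w y) hy0 hE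
    · intro u hu hQu z hz huz
      exact inE_block H hD.decomp hKM j u (perpIn_le _ _ hu) hQu z (perpIn_le _ _ hz) huz
    · rw [mem_orth]
      intro y' hy'
      rw [mem_perpIn] at hy'
      rw [hpx y' hy'.1, polar_comm, hy'.2]
    · rw [mem_orth]
      intro y' hy'
      rw [mem_perpIn] at hy'
      rw [polar_sub_right, hpw y' hy'.1, hydef, polar_sub_right, polar_smul_right,
        polar_comm ⇑Q y' xj, hy'.2]
      simp
  obtain ⟨b, hb, hb0, hQb⟩ := SingGeom.exists_singular_in Q _ hYdim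
  exact hxj (mem_block_of_inE_sing hNM (perpIn_le _ _ hb) hb0 hQb (hall b hb))

end two

end Cfsg.Agent.Lib.Helper5.OddWr
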