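import Mathlib
import Cfsg.Prelude
import Cfsg.Agent.Lib.Helper5.OddWr.PartTwoA
import Cfsg.Agent.Lib.Helper5.OddWr.Geom3

set_option autoImplicit false
set_option linter.unusedSectionVars false
set_option linter.unusedVariables false
open Cfsg

/-! Claim F for three-dimensional blocks: products of four reflections. -/

namespace Cfsg.Agent.Lib.Helper5.OddWr

open Matrix QuadraticMap Module Cfsg.Agent.Lib.Helper5.CartanDieudonne Cfsg.Agent.Lib.Helper5.Refl
  Cfsg.Agent.Lib.Helper5.OrthCard Cfsg.Agent.Lib.Helper5.Siegel Cfsg.Agent.Lib.Helper5.QuadIsom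
  Cfsg.Agent.Lib.Helper5.Eichler Cfsg.Agent.Lib.Helper5.OmegaSimple
  Cfsg.Agent.Lib.Helper5.MaxTS Cfsg.Agent.Lib.Helper5.SpinorNorm
  Cfsg.Agent.Lib.Helper5.SpSingularMax Cfsg.Agent.Lib.Helper5.OrthSingularMax
  Cfsg.Agent.Lib.Helper5.OrthPairMax Cfsg.Agent.Lib.Helper5.OrthNondegMax
  Cfsg.Agent.Lib.Helper5.OrthNondegSub

variable {ι : Type} [Fintype ι] [DecidableEq ι] {F : Type*} [Field F] [Fintype F]
  {Q : QuadraticForm F (ι → F)} {t k : ℕ} {D : Fin t → Submodule F (ι → F)}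
  {M : Subgroup (Matrix.GeneralLinearGroup ι F)}

theorem act_sum (g : ↥(isometryGroup F ⇑Q)) {α : Type*} (s : Finset α) (y : α → ι → F) :
    act Q g (∑ i ∈ s, y i) = ∑ i ∈ s, act Q g (y i) := by
  unfold act
  rw [Matrix.mulVec_sum]

/-- components commute with isometries stabilising every block -/
theorem cmp_act_of_fix (hQ : (polarBilin Q).Nondegenerate)
    (hD : Cfsg.Geo.IsNondegenerateMDecomposition (polar ⇑Q) k D)
    (g : ↥(isometryGroup F ⇑Q)) (h : ∀ i, ∀ u ∈ D i, act Q g u ∈ D i) (j : Fin t) (x : ι → F) :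
    cmp hQ hD j (act Q g x) = act Q g (cmp hQ hD j x) := by
  conv_lhs => rw [← sum_cmp hQ hD x]
  rw [act_sum, map_sum, Finset.sum_eq_single j]
  · exact cmp_of_mem hQ hD (h j _ (cmp_mem hQ hD j x))
  · intro l _ hlj
    exact cmp_of_mem_ne hQ hD hlj (h l _ (cmp_mem hQ hD l x))
  · intro h'
    exact absurd (Finset.mem_univ j) h'

section pair
variable (H : Hyp Q) (h2 : (2 : F) ≠ 0) (hD : Cfsg.Geo.IsOrthogonalMDecomposition ⇑Q k D)
  (hk : 3 ≤ k)
  (hKM : Cfsg.Geo.decompositionStabilizer D ⊓ Cfsg.Geo.omegaGL ⇑Q ≤ M)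

include H h2 hD hKM in
/-- an element of `M` fixing the singular vector `x`, stabilising all blocks and acting on the
block `j` as a rotation of the plane orthogonal to the non-singular component of `x` -/
theorem exists_pair_elem (hk3 : k = 3) (hF : 3 < Fintype.card F) {x : ι → F} (hQx : Q x = 0)
    {j : Fin t} (hQxj : Q (cmp H.nondeg hD.decomp j x) ≠ 0) :
    ∃ (m : ↥(isometryGroup F ⇑Q)) (v w : ι → F) (hQv : Q v ≠ 0) (hQw : Q w ≠ 0),
      (m : Matrix.GeneralLinearGroup ι F) ∈ M ∧ act Q m x = x ∧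
      (∀ i, ∀ u ∈ D i, act Q m u ∈ D i) ∧
      v ∈ perpIn Q (D j) (cmp H.nondeg hD.decomp j x) ∧
      w ∈ perpIn Q (D j) (cmp H.nondeg hD.decomp j x) ∧ polar ⇑Q v w ≠ 0 ∧
      w ∉ Submodule.span F ({v} : Set (ι → F)) ∧
      ∀ u ∈ D j, act Q m u = act Q (reflection Q v hQv * reflection Q w hQw) u := by
  obtain ⟨xj, hxjdef⟩ : ∃ xj, xj = cmp H.nondeg hD.decomp j x := ⟨_, rfl⟩
  rw [← hxjdef] at hQxj ⊢
  have hxjD : xj ∈ D j := by rw [hxjdef]; exact cmp_mem _ _ _ _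
  have hWj := hD.decomp.nondegenerate j
  have hYnd := nondegOn_perpIn hWj h2 hxjD hQxj
  have hYge := finrank_perpIn_ge H.nondeg (D j) xj
  rw [hD.decomp.decomp.finrank_eq, hk3] at hYge
  have hYle : finrank F (perpIn Q (D j) xj) < 3 := by
    have hlt : perpIn Q (D j) xj < D j := by
      refine lt_of_le_of_ne (perpIn_le _ _) ?_
      intro heq
      have : xj ∈ perpIn Q (D j) xj := by rw [heq]; exact hxjD
      rw [mem_perpIn, polar_self, two_smul, ← two_mul] at this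
      exact mul_ne_zero h2 hQxj this.2
    have := Submodule.finrank_lt_finrank_of_lt hlt
    rwa [hD.decomp.decomp.finrank_eq, hk3] at this
  have hYdim : finrank F (perpIn Q (D j) xj) = 2 := by omega
  have hY0 : perpIn Q (D j) xj ≠ ⊥ := by
    intro h0
    rw [h0, finrank_bot] at hYdim
    omega
  obtain ⟨v, hvY, hQv⟩ := exists_nonsing_in hYnd h2 hY0
  have hv0 : v ≠ 0 := by
    rintro rfl
    exact hQv (map_zero Q)
  obtain ⟨w, hwY, hQw, hwv, hwn⟩ := OrthNondegGen.exists_refl_vec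
    (oPair_of_nondeg H.nondeg hYnd) H.nondeg hYdim (fun h => by omega) hvY hv0
  -- a second block with non-singular component
  have hex : ∃ p, p ≠ j ∧ Q (cmp H.nondeg hD.decomp p x) ≠ 0 := by
    by_contra hne
    push Not at hne
    have h1 := quad_eq_sum H.nondeg hD.decomp h2 x
    rw [hQx, Finset.sum_eq_single j (fun p _ hp => hne p hp)
      (fun h => absurd (Finset.mem_univ j) h), ← hxjdef] at h1
    exact hQxj h1.symm
  obtain ⟨p, hpj, hQxp⟩ := hex
  obtain ⟨xp, hxpdef⟩ : ∃ xp, xp = cmp H.nondeg hD.decomp p x := ⟨_, rfl⟩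
  rw [← hxpdef] at hQxp
  have hxpD : xp ∈ D p := by rw [hxpdef]; exact cmp_mem _ _ _ _
  have hYpnd := nondegOn_perpIn (hD.decomp.nondegenerate p) h2 hxpD hQxp
  have hYpge := finrank_perpIn_ge H.nondeg (D p) xp
  rw [hD.decomp.decomp.finrank_eq, hk3] at hYpge
  obtain ⟨v', hv'Y, hQv'⟩ := OmegaTrans.exists_quad_eq_in Q _ (inf_orth_eq_bot hYpnd)
    (by omega) (Q v) hQv
  obtain ⟨w', hw'Y, hQw'⟩ := OmegaTrans.exists_quad_eq_in Q _ (inf_orth_eq_bot hYpnd)
    (by omega) (Q w) hQw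
  rw [mem_perpIn] at hvY hwY hv'Y hw'Y
  have hQv'0 : Q v' ≠ 0 := by rw [hQv']; exact hQv
  have hQw'0 : Q w' ≠ 0 := by rw [hQw']; exact hQw
  refine ⟨reflection Q v hQv * reflection Q w hQw *
    (reflection Q v' hQv'0 * reflection Q w' hQw'0), v, w, hQv, hQw, ?_, ?_, ?_, ?_, ?_, ?_, hwn,
    ?_⟩
  · exact hKM (refl_four_mem H hD.decomp hvY.1 hwY.1 hv'Y.1 hw'Y.1 hQv hQw hQv'0 hQw'0 hQv' hQw')
  · have e1 : ∀ d ∈ D j, polar ⇑Q xj d = 0 → polar ⇑Q d x = 0 := by
      intro d hd hxd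
      rw [← polar_cmp' H.nondeg hD.decomp j x hd, ← hxjdef, polar_comm, hxd]
    have e2 : ∀ d ∈ D p, polar ⇑Q xp d = 0 → polar ⇑Q d x = 0 := by
      intro d hd hxd
      rw [← polar_cmp' H.nondeg hD.decomp p x hd, ← hxpdef, polar_comm, hxd]
    rw [act_mul, act_mul, act_mul,
      ReflClass.act_reflection_of_perp Q w' hQw'0 x (e2 w' hw'Y.1 hw'Y.2),
      ReflClass.act_reflection_of_perp Q v' hQv'0 x (e2 v' hv'Y.1 hv'Y.2),
      ReflClass.act_reflection_of_perp Q w hQw x (e1 w hwY.1 hwY.2),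
      ReflClass.act_reflection_of_perp Q v hQv x (e1 v hvY.1 hvY.2)]
  · intro i u hu
    rw [act_mul, act_mul, act_mul]
    exact act_reflection_mem hD.decomp hvY.1 hQv i (act_reflection_mem hD.decomp hwY.1 hQw i
      (act_reflection_mem hD.decomp hv'Y.1 hQv'0 i (act_reflection_mem hD.decomp hw'Y.1 hQw'0 i
      hu)))
  · rw [mem_perpIn]; exact hvY
  · rw [mem_perpIn]; exact hwY
  · rw [polar_comm]; exact hwv
  · intro u hu
    rw [act_mul (Q := Q) (reflection Q v hQv * reflection Q w hQw), act_mul (Q := Q)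
      (reflection Q v' hQv'0),
      ReflClass.act_reflection_of_perp Q w' hQw'0 u (polar_blocks hD.decomp hpj hw'Y.1 hu),
      ReflClass.act_reflection_of_perp Q v' hQv'0 u (polar_blocks hD.decomp hpj hv'Y.1 hu)]

end pair

end Cfsg.Agent.Lib.Helper5.OddWr
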