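import Mathlib
import Cfsg.Prelude
import Cfsg.Agent.Lib.Helper5.OddWr.PartTwoB

set_option autoImplicit false
set_option linter.unusedSectionVars false
set_option linter.unusedVariables false
open Cfsg

/-! Overgroups of the stabiliser of an orthogonal decomposition without mixed root subgroups
stabilise the decomposition. -/

namespace Cfsg.Agent.Lib.Helper5.OddWr

open Matrix QuadraticMap Module Cfsg.Agent.Lib.Helper5.CartanDieudonne Cfsg.Agent.Lib.Helper5.Refl
  Cfsg.Agent.Lib.Helper5.OrthCard Cfsg.Agent.Lib.Helper5.Siegel Cfsg.Agent.Lib.Helper5.QuadIsom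
  Cfsg.Agent.Lib.Helper5.Eichler Cfsg.Agent.Lib.Helper5.OmegaSimple
  Cfsg.Agent.Lib.Helper5.MaxTS Cfsg.Agent.Lib.Helper5.SpinorNorm
  Cfsg.Agent.Lib.Helper5.SpSingularMax Cfsg.Agent.Lib.Helper5.OrthSingularMax
  Cfsg.Agent.Lib.Helper5.OrthPairMax Cfsg.Agent.Lib.Helper5.OrthNondegMax
  Cfsg.Agent.Lib.Helper5.OrthNondegSub

variable {ι : Type} [Fintype ι] [DecidableEq ι] {F : Type*} [Field F] [Fintype F]
  {Q : QuadraticForm F (ι → F)} {t k : ℕ} {D : Fin t → Submodule F (ι → F)}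
  {M : Subgroup (Matrix.GeneralLinearGroup ι F)}

section three
variable (H : Hyp Q) (h2 : (2 : F) ≠ 0) (hD : Cfsg.Geo.IsOrthogonalMDecomposition ⇑Q k D)
  (hk : 3 ≤ k)
  (hKM : Cfsg.Geo.decompositionStabilizer D ⊓ Cfsg.Geo.omegaGL ⇑Q ≤ M)
  (hNM : ∀ j, ∀ a ∈ D j, a ≠ 0 → Q a = 0 → ∀ w, InE Q M a w → w ∈ D j)

include H h2 hD in
theorem finrank_perpIn_eq_two (hk3 : k = 3) {j : Fin t} {xj : ι → F} (hxjD : xj ∈ D j)
    (hQxj : Q xj ≠ 0) : finrank F (perpIn Q (D j) xj) = 2 := by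
  have hYge := finrank_perpIn_ge H.nondeg (D j) xj
  rw [hD.decomp.decomp.finrank_eq, hk3] at hYge
  have hYle : finrank F (perpIn Q (D j) xj) < 3 := by
    have hlt : perpIn Q (D j) xj < D j := by
      refine lt_of_le_of_ne (perpIn_le _ _) ?_
      intro heq
      have : xj ∈ perpIn Q (D j) xj := by rw [heq]; exact hxjD
      rw [mem_perpIn, polar_self, two_smul, ← two_mul] at this
      exact mul_ne_zero h2 hQxj this.2
    have := Submodule.finrank_lt_finrank_of_lt hlt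
    rwa [hD.decomp.decomp.finrank_eq, hk3] at this
  omega

include H h2 hD hk hKM hNM in
/-- Claim F, non-singular component, blocks of dimension three -/
theorem cmp_mem_span_nonsing3 (hk3 : k = 3) (hF : 3 < Fintype.card F)
    (g : ↥(isometryGroup F ⇑Q)) (hg : (g : Matrix.GeneralLinearGroup ι F) ∈ M)
    {i : Fin t} {a : ι → F} (ha : a ∈ D i) (ha0 : a ≠ 0) (hQa : Q a = 0) {j : Fin t}
    (hQxj : Q (cmp H.nondeg hD.decomp j (act Q g a)) ≠ 0) {w : ι → F}
    (hE : InE Q M (act Q g a) w) :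
    ∃ μ : F, cmp H.nondeg hD.decomp j w = μ • cmp H.nondeg hD.decomp j (act Q g a) := by
  obtain ⟨x, hxdef⟩ : ∃ x, x = act Q g a := ⟨_, rfl⟩
  rw [← hxdef] at hQxj hE ⊢
  have hQx : Q x = 0 := by rw [hxdef, quad_act, hQa]
  have hWi := hD.decomp.nondegenerate i
  obtain ⟨f, hf, hQf, haf⟩ := exists_partner_in hWi ha ha0 hQa
  obtain ⟨c, hc, hac, hfc, hQc⟩ := exists_nonsing_perp_pair hWi H.nondeg h2
    (finrank_block hD hk i) ha hf hQa hQf haf
  have hframe := frame3_perp h2 (by rw [hD.decomp.decomp.finrank_eq, hk3]) ha hf hc hQa hQf haf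
    hac hfc hQc
  obtain ⟨c1, hc1def⟩ : ∃ c1, c1 = act Q g c := ⟨_, rfl⟩
  have hQc1 : Q c1 ≠ 0 := by rw [hc1def, quad_act]; exact hQc
  have hxc1 : polar ⇑Q x c1 = 0 := by rw [hxdef, hc1def, polar_act, hac]
  have hEx : ∀ w', InE Q M x w' → ∃ α γ : F, w' = α • x + γ • c1 := by
    intro w' hw'
    rw [hxdef] at hw'
    obtain ⟨v, hv, hav, rfl⟩ := (inE_act_iff H hD hKM hNM g hg ha ha0 hQa w').mp hw'
    obtain ⟨α, γ, rfl⟩ := hframe v hv hav
    refine ⟨α, γ, ?_⟩
    rw [Siegel.act_add, Siegel.act_smul, Siegel.act_smul, hxdef, hc1def]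
  have hEc1 : InE Q M x c1 := by
    rw [hxdef, hc1def]
    exact (inE_act_iff H hD hKM hNM g hg ha ha0 hQa _).mpr ⟨c, hc, hac, rfl⟩
  obtain ⟨xj, hxjdef⟩ : ∃ xj, xj = cmp H.nondeg hD.decomp j x := ⟨_, rfl⟩
  rw [← hxjdef] at hQxj ⊢
  have hxjD : xj ∈ D j := by rw [hxjdef]; exact cmp_mem _ _ _ _
  have hxx : polar ⇑Q xj xj ≠ 0 := by
    rw [polar_self, two_smul, ← two_mul]
    exact mul_ne_zero h2 hQxj
  suffices key : ∃ μ1 : F, cmp H.nondeg hD.decomp j c1 = μ1 • xj by
    obtain ⟨μ1, hμ1⟩ := key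
    obtain ⟨α, γ, rfl⟩ := hEx w hE
    refine ⟨α + γ * μ1, ?_⟩
    rw [map_add, map_smul, map_smul, hμ1, ← hxjdef, smul_smul, add_smul]
  obtain ⟨cj, hcjdef⟩ : ∃ cj, cj = cmp H.nondeg hD.decomp j c1 := ⟨_, rfl⟩
  rw [← hcjdef]
  have hcjD : cj ∈ D j := by rw [hcjdef]; exact cmp_mem _ _ _ _
  obtain ⟨μ1, hμ1def⟩ : ∃ μ1, μ1 = (polar ⇑Q xj xj)⁻¹ * polar ⇑Q xj cj := ⟨_, rfl⟩
  refine ⟨μ1, ?_⟩
  obtain ⟨y, hydef⟩ : ∃ y, y = cj - μ1 • xj := ⟨_, rfl⟩
  have hyY : y ∈ perpIn Q (D j) xj := by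
    rw [mem_perpIn, hydef]
    refine ⟨(D j).sub_mem hcjD ((D j).smul_mem _ hxjD), ?_⟩
    rw [polar_sub_right, polar_smul_right, hμ1def, smul_eq_mul]
    field_simp
    ring
  have hcj : cj = μ1 • xj + y := by rw [hydef]; abel
  suffices hy0 : y = 0 by rw [hcj, hy0, add_zero]
  -- the product of four reflections
  rw [hxjdef] at hQxj
  obtain ⟨m, v, w0, hQv, hQw, hmM, hmx, hmfix, hvY, hwY, hvw, hwn, hmj⟩ :=
    exists_pair_elem H h2 hD hKM hk3 hF hQx hQxj
  rw [← hxjdef] at hQxj hvY hwY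
  have h3 := inE_conj m hmM hEc1
  rw [hmx] at h3
  obtain ⟨α', γ', hmc1⟩ := hEx _ h3
  have hγ : γ' = 1 ∨ γ' = -1 := by
    have h4 : Q (act Q m c1) = Q c1 := quad_act Q m c1
    rw [hmc1, quad_add', QuadraticMap.map_smul, QuadraticMap.map_smul, hQx, polar_smul_left,
      polar_smul_right, hxc1] at h4
    simp only [smul_eq_mul, mul_zero, zero_add, add_zero] at h4
    have h5 : (γ' - 1) * (γ' + 1) = 0 := by
      have : (γ' * γ' - 1) * Q c1 = 0 := by linear_combination h4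
      have := (mul_eq_zero.mp this).resolve_right hQc1
      linear_combination this
    rcases mul_eq_zero.mp h5 with h | h
    · left; exact sub_eq_zero.mp h
    · right; exact eq_neg_of_add_eq_zero_left h
  have hvY' := (mem_perpIn (D j) xj v).mp hvY
  have hwY' := (mem_perpIn (D j) xj w0).mp hwY
  have hρx : act Q (reflection Q v hQv * reflection Q w0 hQw) xj = xj := by
    rw [act_mul, ReflClass.act_reflection_of_perp Q w0 hQw xj (by rw [polar_comm]; exact hwY'.2),
      ReflClass.act_reflection_of_perp Q v hQv xj (by rw [polar_comm]; exact hvY'.2)]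
  have h6 : act Q (reflection Q v hQv * reflection Q w0 hQw) cj = α' • xj + γ' • cj := by
    rw [← hmj cj hcjD, hcjdef, ← cmp_act_of_fix H.nondeg hD.decomp m hmfix j c1, hmc1, map_add,
      map_smul, map_smul, ← hxjdef]
  rw [hcj, Siegel.act_add, Siegel.act_smul, hρx] at h6
  have h7 : act Q (reflection Q v hQv * reflection Q w0 hQw) y =
      (α' + γ' * μ1 - μ1) • xj + γ' • y := by
    have : act Q (reflection Q v hQv * reflection Q w0 hQw) y =
        (μ1 • xj + act Q (reflection Q v hQv * reflection Q w0 hQw) y) - μ1 • xj := by abel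
    rw [this, h6]
    module
  have hxy : polar ⇑Q xj y = 0 := ((mem_perpIn (D j) xj y).mp hyY).2
  have hδ : α' + γ' * μ1 - μ1 = 0 := by
    have h8 : polar ⇑Q xj (act Q (reflection Q v hQv * reflection Q w0 hQw) y) = 0 := by
      conv_lhs => rw [← hρx]
      rw [polar_act, hxy]
    rw [h7, polar_add_right, polar_smul_right, polar_smul_right, hxy, smul_zero, add_zero,
      smul_eq_mul] at h8
    exact (mul_eq_zero.mp h8).resolve_right hxx
  rw [hδ, zero_smul, zero_add] at h7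
  have hv0 : v ≠ 0 := by
    rintro rfl
    exact hQv (map_zero Q)
  have hYdim := finrank_perpIn_eq_two H h2 hD hk3 hxjD hQxj
  have hli := pair_indep hv0 hwn
  exact rot_eigen_eq_zero (nondegOn_perpIn (hD.decomp.nondegenerate j) h2 hxjD hQxj) hQv hQw hvw
    hli (frame2 hYdim hvY hwY hli) hyY hγ h7

include H h2 hD hk hKM hNM in
/-- Claim F -/
theorem cmp_mem_span_of_inE (hk3 : k = 3 → 3 < Fintype.card F)
    (g : ↥(isometryGroup F ⇑Q)) (hg : (g : Matrix.GeneralLinearGroup ι F) ∈ M)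
    {i : Fin t} {a : ι → F} (ha : a ∈ D i) (ha0 : a ≠ 0) (hQa : Q a = 0) {j : Fin t}
    (hxj : act Q g a ∉ D j) {w : ι → F} (hE : InE Q M (act Q g a) w) :
    ∃ μ : F, cmp H.nondeg hD.decomp j w = μ • cmp H.nondeg hD.decomp j (act Q g a) := by
  have hx0 : act Q g a ≠ 0 := fun h0 => ha0 (act_eq_zero g h0)
  by_cases h0 : cmp H.nondeg hD.decomp j (act Q g a) = 0
  · refine ⟨0, ?_⟩
    rw [zero_smul]
    exact cmp_eq_zero_of_inE H hD hk hKM hNM hx0 h0 hE
  · by_cases hs : Q (cmp H.nondeg hD.decomp j (act Q g a)) = 0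
    · exact cmp_mem_span_sing H h2 hD hk hKM hNM hxj h0 hs hE
    · by_cases h3 : k = 3
      · exact cmp_mem_span_nonsing3 H h2 hD hk hKM hNM h3 (hk3 h3) g hg ha ha0 hQa hs hE
      · exact cmp_mem_span_nonsing H h2 hD hk hKM hNM (by omega) hxj hs hE

include H h2 hD hk hKM hNM in
/-- if the image of a singular block vector lies in a block, the whole block is mapped there -/
theorem map_block_of_pure (hk3 : k = 3 → 3 < Fintype.card F)
    (g : ↥(isometryGroup F ⇑Q)) (hg : (g : Matrix.GeneralLinearGroup ι F) ∈ M)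
    {i : Fin t} {a : ι → F} (ha : a ∈ D i) (ha0 : a ≠ 0) (hQa : Q a = 0) {l : Fin t}
    (hgal : act Q g a ∈ D l) : ∀ v ∈ D i, act Q g v ∈ D l := by
  have hWi := hD.decomp.nondegenerate i
  obtain ⟨f, hf, hQf, haf⟩ := exists_partner_in hWi ha ha0 hQa
  obtain ⟨c, hc, hac, hfc, hQc⟩ := exists_nonsing_perp_pair hWi H.nondeg h2
    (finrank_block hD hk i) ha hf hQa hQf haf
  have hga0 : act Q g a ≠ 0 := fun h0 => ha0 (act_eq_zero g h0)
  have step1 : ∀ v ∈ D i, polar ⇑Q a v = 0 → act Q g v ∈ D l := by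
    intro v hv hav
    exact hNM l _ hgal hga0 (by rw [quad_act, hQa]) _
      (inE_conj g hg (inE_block H hD.decomp hKM i a ha hQa v hv hav))
  have hf0 : f ≠ 0 := by
    rintro rfl
    rw [polar_zero_right] at haf
    exact zero_ne_one haf
  have hxl : act Q g f ∈ D l := by
    by_contra hx
    have hE : InE Q M (act Q g f) (act Q g c) :=
      inE_conj g hg (inE_block H hD.decomp hKM i f hf hQf c hc hfc)
    obtain ⟨μ, hμ⟩ := cmp_mem_span_of_inE H h2 hD hk hKM hNM hk3 g hg hf hf0 hQf hx hE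
    have hc1 := step1 c hc hac
    rw [cmp_of_mem H.nondeg hD.decomp hc1] at hμ
    have hQc1 : Q (act Q g c) ≠ 0 := by rw [quad_act]; exact hQc
    have h3 : polar ⇑Q (cmp H.nondeg hD.decomp l (act Q g f)) (act Q g c) = 0 := by
      rw [polar_cmp H.nondeg hD.decomp l _ hc1, polar_act, hfc]
    rw [hμ, polar_smul_right, polar_self, smul_eq_mul, two_smul, ← two_mul] at h3
    apply hQc1
    rw [hμ, QuadraticMap.map_smul]
    rcases mul_eq_zero.mp h3 with h | h
    · rw [h]; simp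
    · rw [(mul_eq_zero.mp h).resolve_left h2]; simp
  intro v hv
  have e : v = (v - polar ⇑Q a v • f) + polar ⇑Q a v • f := by abel
  rw [e, Siegel.act_add, Siegel.act_smul]
  refine (D l).add_mem (step1 _ ((D i).sub_mem hv ((D i).smul_mem _ hf)) ?_)
    ((D l).smul_mem _ hxl)
  rw [polar_sub_right, polar_smul_right, haf, smul_eq_mul, mul_one, sub_self]

include H h2 hD hk hKM hNM in
/-- an element of `M` fixing pointwise a subspace of dimension at least two of a block
stabilises the block -/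
theorem map_block_of_fix_plane (hk3 : k = 3 → 3 < Fintype.card F)
    (g : ↥(isometryGroup F ⇑Q)) (hg : (g : Matrix.GeneralLinearGroup ι F) ∈ M)
    {j : Fin t} (P : Submodule F (ι → F)) (hP : P ≤ D j) (hPdim : 2 ≤ finrank F P)
    (hfix : ∀ v ∈ P, act Q g v = v) : ∀ v ∈ D j, act Q g v ∈ D j := by
  obtain ⟨a, ha, ha0, hQa⟩ := SingGeom.exists_singular_in Q (D j) (finrank_block hD hk j)
  by_cases hpure : ∃ l, act Q g a ∈ D l
  · obtain ⟨l, hl⟩ := hpure
    have h1 := map_block_of_pure H h2 hD hk hKM hNM hk3 g hg ha ha0 hQa hl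
    have hP0 : P ≠ ⊥ := by
      intro h0
      rw [h0, finrank_bot] at hPdim
      omega
    obtain ⟨p1, hp1, hp10⟩ := Submodule.exists_mem_ne_zero_of_ne_bot hP0
    have h3 := h1 p1 (hP hp1)
    rw [hfix p1 hp1] at h3
    have hlj : l = j := by
      by_contra hne
      exact hp10 (eq_zero_of_mem_two H.nondeg hD.decomp hne h3 (hP hp1))
    subst hlj
    exact h1
  · push Not at hpure
    exfalso
    have h4 := finrank_perpIn_ge H.nondeg P (act Q g a)
    have hne : perpIn Q P (act Q g a) ≠ ⊥ := by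
      intro h0
      rw [h0, finrank_bot] at h4
      omega
    obtain ⟨w, hw, hw0⟩ := Submodule.exists_mem_ne_zero_of_ne_bot hne
    rw [mem_perpIn] at hw
    have hwD : w ∈ D j := hP hw.1
    have hE : InE Q M (act Q g a) w := by
      refine (inE_act_iff H hD hKM hNM g hg ha ha0 hQa w).mpr ⟨w, hwD, ?_, hfix w hw.1⟩
      rw [← polar_act Q g a w, hfix w hw.1]
      exact hw.2
    obtain ⟨μ, hμ⟩ := cmp_mem_span_of_inE H h2 hD hk hKM hNM hk3 g hg ha ha0 hQa (hpure j) hE
    rw [cmp_of_mem H.nondeg hD.decomp hwD] at hμ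
    have hμ0 : μ ≠ 0 := by
      rintro rfl
      rw [zero_smul] at hμ
      exact hw0 hμ
    have hxj0 : cmp H.nondeg hD.decomp j (act Q g a) ≠ 0 := by
      intro h0
      rw [h0, smul_zero] at hμ
      exact hw0 hμ
    have hE' : InE Q M (act Q g a) (cmp H.nondeg hD.decomp j (act Q g a)) := by
      have := inE_smul_right μ⁻¹ hE
      rwa [hμ, smul_smul, inv_mul_cancel₀ hμ0, one_smul] at this
    have hQxj : Q (cmp H.nondeg hD.decomp j (act Q g a)) = 0 := by
      have h5 := hE'.2.1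
      rw [← polar_cmp H.nondeg hD.decomp j (act Q g a) (cmp_mem _ _ _ _), polar_self, two_smul,
        ← two_mul] at h5
      exact (mul_eq_zero.mp h5).resolve_left h2
    exact hpure j (mem_block_of_inE_sing hNM (cmp_mem _ _ _ _) hxj0 hQxj hE')

end three

end Cfsg.Agent.Lib.Helper5.OddWr
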