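import Mathlib
import Cfsg.Prelude
import Cfsg.Agent.Lib.Helper5.OddWr.PartTwoC

set_option autoImplicit false
set_option linter.unusedSectionVars false
set_option linter.unusedVariables false
open Cfsg

/-! Overgroups of the stabiliser of an orthogonal decomposition without mixed root subgroups
stabilise the decomposition: conclusion. -/

namespace Cfsg.Agent.Lib.Helper5.OddWr

open Matrix QuadraticMap Module Cfsg.Agent.Lib.Helper5.CartanDieudonne Cfsg.Agent.Lib.Helper5.Refl
  Cfsg.Agent.Lib.Helper5.OrthCard Cfsg.Agent.Lib.Helper5.Siegel Cfsg.Agent.Lib.Helper5.QuadIsom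
  Cfsg.Agent.Lib.Helper5.Eichler Cfsg.Agent.Lib.Helper5.OmegaSimple
  Cfsg.Agent.Lib.Helper5.MaxTS Cfsg.Agent.Lib.Helper5.SpinorNorm
  Cfsg.Agent.Lib.Helper5.SpSingularMax Cfsg.Agent.Lib.Helper5.OrthSingularMax
  Cfsg.Agent.Lib.Helper5.OrthPairMax Cfsg.Agent.Lib.Helper5.OrthNondegMax
  Cfsg.Agent.Lib.Helper5.OrthNondegSub

variable {ι : Type} [Fintype ι] [DecidableEq ι] {F : Type*} [Field F] [Fintype F]
  {Q : QuadraticForm F (ι → F)} {t k : ℕ} {D : Fin t → Submodule F (ι → F)}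
  {M : Subgroup (Matrix.GeneralLinearGroup ι F)}

section four
variable (H : Hyp Q) (h2 : (2 : F) ≠ 0) (hD : Cfsg.Geo.IsOrthogonalMDecomposition ⇑Q k D)
  (hk : 3 ≤ k)
  (hKM : Cfsg.Geo.decompositionStabilizer D ⊓ Cfsg.Geo.omegaGL ⇑Q ≤ M)
  (hNM : ∀ j, ∀ a ∈ D j, a ≠ 0 → Q a = 0 → ∀ w, InE Q M a w → w ∈ D j)

include H h2 hD hk hKM hNM in
/-- every element of `M` maps every block into a block -/
theorem exists_block_map (hk3 : k = 3 → 3 < Fintype.card F)
    (g : ↥(isometryGroup F ⇑Q)) (hg : (g : Matrix.GeneralLinearGroup ι F) ∈ M) (i : Fin t) :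
    ∃ l, ∀ v ∈ D i, act Q g v ∈ D l := by
  obtain ⟨a, ha, ha0, hQa⟩ := SingGeom.exists_singular_in Q (D i) (finrank_block hD hk i)
  by_cases hpure : ∃ l, act Q g a ∈ D l
  · obtain ⟨l, hl⟩ := hpure
    exact ⟨l, map_block_of_pure H h2 hD hk hKM hNM hk3 g hg ha ha0 hQa hl⟩
  · push Not at hpure
    exfalso
    have hx0 : act Q g a ≠ 0 := fun h0 => ha0 (act_eq_zero g h0)
    have hQx : Q (act Q g a) = 0 := by rw [quad_act, hQa]
    obtain ⟨j, hj⟩ : ∃ j, cmp H.nondeg hD.decomp j (act Q g a) ≠ 0 := by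
      by_contra hne
      push Not at hne
      apply hx0
      rw [← sum_cmp H.nondeg hD.decomp (act Q g a)]
      exact Finset.sum_eq_zero (fun j _ => hne j)
    obtain ⟨p, hpj, hp⟩ : ∃ p, p ≠ j ∧ cmp H.nondeg hD.decomp p (act Q g a) ≠ 0 := by
      by_contra hne
      push Not at hne
      exact hpure j ((mem_block_iff H.nondeg hD.decomp _ j).mpr hne)
    have hWi := hD.decomp.nondegenerate i
    obtain ⟨f, hf, hQf, haf⟩ := exists_partner_in hWi ha ha0 hQa
    obtain ⟨c, hc, hac, hfc, hQc⟩ := exists_nonsing_perp_pair hWi H.nondeg h2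
      (finrank_block hD hk i) ha hf hQa hQf haf
    have hE : InE Q M (act Q g a) (act Q g c) :=
      inE_conj g hg (inE_block H hD.decomp hKM i a ha hQa c hc hac)
    have hQw : Q (act Q g c) ≠ 0 := by rw [quad_act]; exact hQc
    obtain ⟨x, hxdef⟩ : ∃ x, x = act Q g a := ⟨_, rfl⟩
    rw [← hxdef] at hx0 hQx hj hp hE hpure
    obtain ⟨xj, hxjdef⟩ : ∃ xj, xj = cmp H.nondeg hD.decomp j x := ⟨_, rfl⟩
    obtain ⟨xp, hxpdef⟩ : ∃ xp, xp = cmp H.nondeg hD.decomp p x := ⟨_, rfl⟩
    have hxjD : xj ∈ D j := by rw [hxjdef]; exact cmp_mem _ _ _ _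
    rw [← hxjdef] at hj
    rw [← hxpdef] at hp
    have key : ∀ w', InE Q M x w' → ∀ μj μp : F, cmp H.nondeg hD.decomp j w' = μj • xj →
        cmp H.nondeg hD.decomp p w' = μp • xp → μp = μj + Q w' := by
      intro w' hw' μj μp hμj hμp
      have hxw' : polar ⇑Q x w' = 0 := hw'.2.1
      have hg'M := EG_mem_of_inE hw'
      have hpx : ∀ d ∈ D j, polar ⇑Q x d = polar ⇑Q xj d := by
        intro d hd
        rw [hxjdef, polar_cmp H.nondeg hD.decomp j x hd]
      have hpw : ∀ d ∈ D j, polar ⇑Q w' d = μj * polar ⇑Q xj d := by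
        intro d hd
        rw [← polar_cmp H.nondeg hD.decomp j w' hd, hμj, polar_smul_left, smul_eq_mul]
      have hfix : ∀ v ∈ perpIn Q (D j) xj, act Q (EG Q x w') v = v := by
        intro v hv
        rw [mem_perpIn] at hv
        rw [act_EG Q x w' hQx hxw' v, hpx v hv.1, hpw v hv.1, hv.2]
        simp
      have hPdim : 2 ≤ finrank F (perpIn Q (D j) xj) := by
        have := finrank_perpIn_ge H.nondeg (D j) xj
        rw [hD.decomp.decomp.finrank_eq] at this
        omega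
      have hstab := map_block_of_fix_plane H h2 hD hk hKM hNM hk3 (EG Q x w') hg'M
        (perpIn Q (D j) xj) (perpIn_le _ _) hPdim hfix
      obtain ⟨v', hv', hxv'⟩ := (hD.decomp.nondegenerate j xj hxjD hj).2
      obtain ⟨v0, hv0def⟩ : ∃ v0, v0 = (polar ⇑Q xj v')⁻¹ • v' := ⟨_, rfl⟩
      have hv0 : v0 ∈ D j := by rw [hv0def]; exact (D j).smul_mem _ hv'
      have hxv0 : polar ⇑Q xj v0 = 1 := by
        rw [hv0def, polar_smul_right, smul_eq_mul, inv_mul_cancel₀ hxv']
      have h5 := hstab v0 hv0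
      rw [act_EG Q x w' hQx hxw' v0, hpx v0 hv0, hpw v0 hv0, hxv0, one_smul, mul_one, mul_one]
        at h5
      have h6 := (mem_block_iff H.nondeg hD.decomp _ j).mp h5 p hpj
      rw [map_add, map_add, map_smul, cmp_of_mem_ne H.nondeg hD.decomp hpj.symm hv0, hμp,
        ← hxpdef, zero_add, ← add_smul] at h6
      have h7 := (smul_eq_zero.mp h6).resolve_right hp
      linear_combination h7
    have hxj' : x ∉ D j := hpure j
    have hxp' : x ∉ D p := hpure p
    rw [hxdef] at hE hxj' hxp'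
    obtain ⟨μj, hμj⟩ := cmp_mem_span_of_inE H h2 hD hk hKM hNM hk3 g hg ha ha0 hQa hxj' hE
    obtain ⟨μp, hμp⟩ := cmp_mem_span_of_inE H h2 hD hk hKM hNM hk3 g hg ha ha0 hQa hxp' hE
    rw [← hxdef] at hE hμj hμp
    rw [← hxjdef] at hμj
    rw [← hxpdef] at hμp
    have e1 := key _ hE μj μp hμj hμp
    have e2 := key _ (inE_neg hE) (-μj) (-μp) (by rw [map_neg, hμj, neg_smul])
      (by rw [map_neg, hμp, neg_smul])
    rw [QuadraticMap.map_neg] at e2
    apply hQw
    have : 2 * Q (act Q g c) = 0 := by linear_combination -e1 - e2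
    exact (mul_eq_zero.mp this).resolve_left h2

include hD hk in
theorem exists_mem_block_ne_zero (i : Fin t) : ∃ v ∈ D i, v ≠ 0 := by
  have h3 := finrank_block hD hk i
  have hne : D i ≠ ⊥ := by
    intro h0
    rw [h0, finrank_bot] at h3
    omega
  exact Submodule.exists_mem_ne_zero_of_ne_bot hne

include H h2 hD hk hKM hNM in
/-- Part 2: without mixed root subgroups, `M` stabilises the decomposition -/
theorem le_decompStab_of_noMix (hk3 : k = 3 → 3 < Fintype.card F)
    (hMle : M ≤ Cfsg.Geo.omegaGL ⇑Q) : M ≤ Cfsg.Geo.decompositionStabilizer D := by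
  intro g hg
  obtain ⟨a, -, rfl⟩ := (mem_omegaGL_iff Q g).mp (hMle hg)
  choose σ hσ using exists_block_map H h2 hD hk hKM hNM hk3 a hg
  choose σ' hσ' using exists_block_map H h2 hD hk hKM hNM hk3 a⁻¹ (M.inv_mem hg)
  have hinv : ∀ i, σ' (σ i) = i := by
    intro i
    obtain ⟨v, hv, hv0⟩ := exists_mem_block_ne_zero hD hk i
    have h1 := hσ' (σ i) _ (hσ i v hv)
    rw [act_inv_act'] at h1
    by_contra hne
    exact hv0 (eq_zero_of_mem_two H.nondeg hD.decomp hne h1 hv)
  have hinj : Function.Injective σ := Function.LeftInverse.injective hinv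
  have hbij : Function.Bijective σ := Finite.injective_iff_bijective.mp hinj
  exact mem_decompStab_of_map_le hD.decomp.decomp _ (Equiv.ofBijective σ hbij) (fun i x hx => by
    rw [Equiv.ofBijective_apply]
    exact hσ i x hx)

end four

end Cfsg.Agent.Lib.Helper5.OddWr
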