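import Mathlib
import Cfsg.Prelude
import Cfsg.Agent.Lib.Helper5.OddWr.PartTwoD

set_option autoImplicit false
set_option linter.unusedSectionVars false
set_option linter.unusedVariables false
open Cfsg

/-! The stabiliser of an orthogonal decomposition into isometric non-degenerate blocks of
dimension at least three is maximal in `Ω`. -/

namespace Cfsg.Agent.Lib.Helper5.OddWr

open Matrix QuadraticMap Module Cfsg.Agent.Lib.Helper5.CartanDieudonne Cfsg.Agent.Lib.Helper5.Refl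
  Cfsg.Agent.Lib.Helper5.OrthCard Cfsg.Agent.Lib.Helper5.Siegel Cfsg.Agent.Lib.Helper5.QuadIsom
  Cfsg.Agent.Lib.Helper5.Eichler Cfsg.Agent.Lib.Helper5.OmegaSimple
  Cfsg.Agent.Lib.Helper5.MaxTS Cfsg.Agent.Lib.Helper5.SpinorNorm
  Cfsg.Agent.Lib.Helper5.SpSingularMax Cfsg.Agent.Lib.Helper5.OrthSingularMax
  Cfsg.Agent.Lib.Helper5.OrthPairMax Cfsg.Agent.Lib.Helper5.OrthNondegMax
  Cfsg.Agent.Lib.Helper5.OrthNondegSub

variable {ι : Type} [Fintype ι] [DecidableEq ι] {F : Type*} [Field F] [Fintype F]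
  {Q : QuadraticForm F (ι → F)} {t k : ℕ} {D : Fin t → Submodule F (ι → F)}

/-- a root element joining two blocks does not stabilise the decomposition -/
theorem exists_not_mem_decompStab (H : Hyp Q) (h2 : (2 : F) ≠ 0)
    (hD : Cfsg.Geo.IsOrthogonalMDecomposition ⇑Q k D) (hk : 3 ≤ k) :
    ∃ g : Matrix.GeneralLinearGroup ι F, g ∈ Cfsg.Geo.omegaGL ⇑Q ∧
      g ∉ Cfsg.Geo.decompositionStabilizer D := by
  have ht := hD.decomp.decomp.two_le
  obtain ⟨i0, hi0⟩ : ∃ i0 : Fin t, i0 = ⟨0, by omega⟩ := ⟨_, rfl⟩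
  obtain ⟨i1, hi1⟩ : ∃ i1 : Fin t, i1 = ⟨1, by omega⟩ := ⟨_, rfl⟩
  have h01 : i0 ≠ i1 := by
    rw [hi0, hi1]
    intro h
    have := Fin.mk.inj_iff.mp h
    omega
  obtain ⟨a, ha, ha0, hQa⟩ := SingGeom.exists_singular_in Q (D i0) (finrank_block hD hk i0)
  obtain ⟨w, hw, hw0⟩ := exists_mem_block_ne_zero hD hk i1
  obtain ⟨v, hv, hwv⟩ := (hD.decomp.nondegenerate i1 w hw hw0).2
  have haw : polar ⇑Q a w = 0 := polar_blocks hD.decomp h01 ha hw
  have hav : polar ⇑Q a v = 0 := polar_blocks hD.decomp h01 ha hv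
  refine ⟨((EG Q a w : ↥(isometryGroup F ⇑Q)) : Matrix.GeneralLinearGroup ι F), ?_, ?_⟩
  · rw [EG_eq Q a w hQa haw]
    exact eich_mem_omegaGL H a w hQa haw
  · rintro ⟨σ, hσ⟩
    have h1 : act Q (EG Q a w) v ∈ D (σ i1) := by
      rw [← hσ i1]
      exact ⟨v, hv, Matrix.toLin'_apply _ _⟩
    rw [act_EG Q a w hQa haw v, hav, zero_smul, add_zero, mul_zero, add_zero] at h1
    have h3 := (mem_block_iff H.nondeg hD.decomp _ (σ i1)).mp h1
    have hc0 : cmp H.nondeg hD.decomp i0 (v + (-polar ⇑Q w v) • a) = (-polar ⇑Q w v) • a := by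
      rw [map_add, map_smul, cmp_of_mem_ne H.nondeg hD.decomp h01.symm hv,
        cmp_of_mem H.nondeg hD.decomp ha, zero_add]
    have hc1 : cmp H.nondeg hD.decomp i1 (v + (-polar ⇑Q w v) • a) = v := by
      rw [map_add, map_smul, cmp_of_mem_ne H.nondeg hD.decomp h01 ha,
        cmp_of_mem H.nondeg hD.decomp hv, smul_zero, add_zero]
    have hv0 : v ≠ 0 := by
      rintro rfl
      exact hwv (polar_zero_right _ _)
    by_cases hs : i0 = σ i1
    · have := h3 i1 (by rw [← hs]; exact h01.symm)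
      rw [hc1] at this
      exact hv0 this
    · have := h3 i0 hs
      rw [hc0] at this
      rcases smul_eq_zero.mp this with h | h
      · exact hwv (neg_eq_zero.mp h)
      · exact ha0 h

/-- the stabiliser of an orthogonal decomposition into isometric non-degenerate blocks of
dimension at least three is maximal in `Ω` (over a field with more than three elements when the
blocks have dimension three) -/
theorem wr_isMaximalIn (H : Hyp Q) (h2 : (2 : F) ≠ 0)
    (hD : Cfsg.Geo.IsOrthogonalMDecomposition ⇑Q k D) (hk : 3 ≤ k)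
    (hk3 : k = 3 → 3 < Fintype.card F) :
    Cfsg.Geo.IsMaximalIn (Cfsg.Geo.omegaGL ⇑Q)
      (Cfsg.Geo.decompositionStabilizer D ⊓ Cfsg.Geo.omegaGL ⇑Q) := by
  refine ⟨lt_of_le_of_ne inf_le_right ?_, ?_⟩
  · intro heq
    obtain ⟨g, hg1, hg2⟩ := exists_not_mem_decompStab H h2 hD hk
    rw [← heq] at hg1
    exact hg2 hg1.1
  · intro M hKM hMle
    by_cases hNM : ∀ j, ∀ a ∈ D j, a ≠ 0 → Q a = 0 → ∀ w, InE Q M a w → w ∈ D j
    · left
      exact le_antisymm (le_inf (le_decompStab_of_noMix H h2 hD hk hKM hNM hk3 hMle) hMle) hKM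
    · right
      push Not at hNM
      obtain ⟨j, a, ha, ha0, hQa, w, hE, hw⟩ := hNM
      exact le_antisymm hMle (omegaGL_le_of_mixed H h2 hD hk hKM ha ha0 hQa hE hw)

end Cfsg.Agent.Lib.Helper5.OddWr
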